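import Groth.Agent.FlatCx.Ext

/-! Surjectivity at finite levels implies surjectivity (Artin–Rees). -/

open CategoryTheory CategoryTheory.Limits MonoidalCategory TensorProduct LinearMap Function

universe u

namespace Groth.Agent.FlatCx

variable {A : Type u} [CommRing A]

/-- `M ⊗ A/J` is `M / JM`. -/
theorem tmul_one_eq_zero_iff {M : Type u} [AddCommGroup M] [Module A M] (J : Ideal A) (m : M) :
    m ⊗ₜ[A] (1 : A ⧸ J) = 0 ↔ m ∈ J • (⊤ : Submodule A M) := by
  rw [← TensorProduct.tensorQuotEquivQuotSMul_symm_mk J m, LinearEquiv.map_eq_zero_iff,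
    Submodule.Quotient.mk_eq_zero]

theorem exists_tmul_one {M : Type u} [AddCommGroup M] [Module A M] (J : Ideal A) (z : M ⊗[A] (A ⧸ J)) :
    ∃ m : M, m ⊗ₜ[A] (1 : A ⧸ J) = z := by
  induction z using TensorProduct.induction_on with
  | zero => exact ⟨0, zero_tmul _ _⟩
  | tmul m r =>
    obtain ⟨a, rfl⟩ := Ideal.Quotient.mk_surjective r
    exact ⟨a • m, by rw [smul_tmul, show a • (1 : A ⧸ J) = Ideal.Quotient.mk J a by
      rw [Algebra.smul_def, mul_one]; rfl]⟩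
  | add x y hx hy =>
    obtain ⟨a, rfl⟩ := hx
    obtain ⟨b, rfl⟩ := hy
    exact ⟨a + b, add_tmul _ _ _⟩

theorem kerTensorSurj_residueField_of_levels [IsNoetherianRing A] [IsLocalRing A] {C F : Type u}
    [AddCommGroup C] [Module A C] [AddCommGroup F] [Module A F] [Module.Finite A F] (δ : C →ₗ[A] F)
    (h : ∀ n₁ : ℕ, ∃ n, n₁ ≤ n ∧ ∀ z, δ.rTensor (A ⧸ IsLocalRing.maximalIdeal A) z = 0 →
      ∃ c : C, δ c ∈ IsLocalRing.maximalIdeal A ^ (n + 1) • (⊤ : Submodule A F) ∧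
        c ⊗ₜ[A] (1 : A ⧸ IsLocalRing.maximalIdeal A) = z) :
    KerTensorSurj δ (IsLocalRing.ResidueField A) := by
  let m := IsLocalRing.maximalIdeal A
  haveI : IsNoetherian A F := inferInstance
  obtain ⟨k, hk⟩ := Ideal.exists_pow_inf_eq_pow_smul m (range δ)
  obtain ⟨n, hn, hz⟩ := h k
  intro (z : C ⊗[A] (A ⧸ m)) hzker
  obtain ⟨c, hc, rfl⟩ := hz z hzker
  have h1 : δ c ∈ (m • (⊤ : Submodule A C)).map δ := by
    rw [Submodule.map_smul'', Submodule.map_top]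
    have h2 : δ c ∈ m ^ (n + 1) • (⊤ : Submodule A F) ⊓ range δ := ⟨hc, ⟨c, rfl⟩⟩
    rw [hk (n + 1) (by omega)] at h2
    exact Submodule.smul_mono (Ideal.pow_le_self (by omega)) inf_le_right h2
  obtain ⟨c', hc', hcc⟩ := h1
  refine ⟨(⟨c - c', by simp [hcc]⟩ : ker δ) ⊗ₜ[A] (1 : A ⧸ m), ?_⟩
  show (c - c') ⊗ₜ[A] (1 : A ⧸ m) = c ⊗ₜ[A] (1 : A ⧸ m)
  rw [sub_tmul, (tmul_one_eq_zero_iff m c').mpr hc', sub_zero]

theorem surjective_residueField_of_factor [IsNoetherianRing A] [IsLocalRing A]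
    (P : ChainComplex (ModuleCat.{u} A) ℤ) (p : ℤ)
    (hP : ∀ i, Module.Finite A (P.X i) ∧ Module.Flat A (P.X i))
    (h : ∃ n₀ : ℕ, ∀ n : ℕ, n₀ ≤ n → Function.Surjective ((CohIII.TFun P p).map (ModuleCat.ofHom
        (Ideal.Quotient.factorₐ A (Ideal.pow_le_self (I := IsLocalRing.maximalIdeal A)
          (Nat.succ_ne_zero n))).toLinearMap :
        ModuleCat.of A (A ⧸ IsLocalRing.maximalIdeal A ^ (n + 1)) ⟶
          ModuleCat.of A (A ⧸ IsLocalRing.maximalIdeal A))).hom) :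
    Surjective ((CohIII.TFun P p).map
      (ModuleCat.ofHom (Algebra.linearMap A (IsLocalRing.ResidueField A)))).hom := by
  obtain ⟨n₀, hn₀⟩ := h
  have hq := sub_add_cancel p 1
  haveI := (hP (p - 1)).1; haveI := (hP (p - 1)).2
  have hS : KerTensorSurj (δ P p (p - 1)) (IsLocalRing.ResidueField A) := by
    refine kerTensorSurj_residueField_of_levels _ fun n₁ => ⟨max n₀ n₁, le_max_right _ _, fun z hz => ?_⟩
    obtain ⟨w, hw, hwz⟩ := (map_surjective_iff P p hq _).mp (hn₀ _ (le_max_left _ _)) z hz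
    obtain ⟨c, rfl⟩ := exists_tmul_one _ w
    exact ⟨c, (tmul_one_eq_zero_iff _ _).mp hw, hwz⟩
  haveI := (hP p).1
  haveI := flat_coker_of_kerTensorSurj (δ P p (p - 1)) hS
  exact map_surjective_of_preservesEpi P p ((preservesEpi_iff_flat P p (fun i => (hP i).2) hq).mpr
    (Module.Flat.of_linearEquiv (cokerδ P p hq).symm)) _ IsLocalRing.residue_surjective

end Groth.Agent.FlatCx
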