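import Groth.Agent.FlatCx.Ext
import Mathlib.Algebra.Homology.HomotopyCategory.Acyclic
import Mathlib.Algebra.Homology.HomotopyCategory.MappingCone
import Mathlib.Algebra.Category.ModuleCat.Monoidal.Basic
import Mathlib.RingTheory.Localization.AtPrime.Basic

/-! Bounded above acyclic flat cochain complexes. -/

open CategoryTheory CategoryTheory.Limits MonoidalCategory TensorProduct LinearMap Function

universe u

namespace Groth.Agent.FlatCx

variable {A : Type u} [CommRing A]

theorem range_eq_ker_of_exactAt (F : CochainComplex (ModuleCat.{u} A) ℤ) (i j k : ℤ) (hij : i + 1 = j)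
    (hjk : j + 1 = k) (h : F.ExactAt j) : range (F.d i j).hom = ker (F.d j k).hom := by
  rw [F.exactAt_iff' i j k (by simp; omega) (by simp; omega),
    ShortComplex.moduleCat_exact_iff_range_eq_ker] at h
  exact h

theorem exactAt_of_range_eq_ker (F : CochainComplex (ModuleCat.{u} A) ℤ) (i j k : ℤ) (hij : i + 1 = j)
    (hjk : j + 1 = k) (h : range (F.d i j).hom = ker (F.d j k).hom) : F.ExactAt j := by
  rw [F.exactAt_iff' i j k (by simp; omega) (by simp; omega),
    ShortComplex.moduleCat_exact_iff_range_eq_ker]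
  exact h

theorem flat_ker_of_exact_above (F : CochainComplex (ModuleCat.{u} A) ℤ)
    (hF : ∀ i, Module.Flat A (F.X i)) (b : ℤ) (hb : ∀ i, b < i → IsZero (F.X i)) (d : ℤ)
    (hac : ∀ p, d < p → F.ExactAt p) : ∀ i, d ≤ i → Module.Flat A (ker (F.d i (i + 1)).hom) := by
  have key : ∀ n : ℕ, ∀ i, d ≤ i → b < i + n → Module.Flat A (ker (F.d i (i + 1)).hom) := by
    intro n
    induction n with
    | zero =>
      intro i _ hi
      haveI := ModuleCat.subsingleton_of_isZero (hb i (by omega))
      infer_instance
    | succ n ih =>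
      intro i hi hin
      haveI := hF i
      haveI : Module.Flat A (range (F.d i (i + 1)).hom) := by
        rw [range_eq_ker_of_exactAt F i (i + 1) (i + 1 + 1) rfl rfl (hac _ (by omega))]
        exact ih (i + 1) (by omega) (by omega)
      haveI : Module.Flat A (F.X i ⧸ ker (F.d i (i + 1)).hom) :=
        Module.Flat.of_linearEquiv (F.d i (i + 1)).hom.quotKerEquivRange
      exact flat_of_flat_quotient _
  intro i hi
  exact key (b - i + 1).toNat i hi (by omega)

theorem exactAt_tensor (F : CochainComplex (ModuleCat.{u} A) ℤ)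
    (hF : ∀ i, Module.Flat A (F.X i)) (b : ℤ) (hb : ∀ i, b < i → IsZero (F.X i))
    (hac : ∀ p, F.ExactAt p) (M : ModuleCat.{u} A) (n : ℤ) :
    (((tensorRight M).mapHomologicalComplex (ComplexShape.up ℤ)).obj F).ExactAt n := by
  refine exactAt_of_range_eq_ker _ (n - 1) n (n + 1) (by omega) rfl ?_
  show range ((F.d (n - 1) n).hom.rTensor M) = ker ((F.d n (n + 1)).hom.rTensor M)
  let d₁ := (F.d n (n + 1)).hom
  let d₀ := (F.d (n - 1) n).hom
  have h0 : range d₀ = ker d₁ := range_eq_ker_of_exactAt F (n - 1) n (n + 1) (by omega) rfl (hac n)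
  haveI := hF (n + 1)
  haveI : Module.Flat A (range (F.d (n + 1) (n + 1 + 1)).hom) := by
    rw [range_eq_ker_of_exactAt F (n + 1) (n + 1 + 1) (n + 1 + 1 + 1) rfl rfl (hac _)]
    exact flat_ker_of_exact_above F hF b hb (n + 1) (fun p _ => hac p) _ (by omega)
  haveI : Module.Flat A (F.X (n + 1) ⧸ range d₁) := by
    rw [show range d₁ = ker (F.d (n + 1) (n + 1 + 1)).hom from
      range_eq_ker_of_exactAt F n (n + 1) (n + 1 + 1) rfl rfl (hac _)]
    exact Module.Flat.of_linearEquiv (F.d (n + 1) (n + 1 + 1)).hom.quotKerEquivRange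
  refine le_antisymm ?_ fun z hz => ?_
  · rintro _ ⟨w, rfl⟩
    rw [mem_ker, ← rTensor_comp_apply, (LinearMap.exact_iff.mpr h0.symm).linearMap_comp_eq_zero,
      rTensor_zero, LinearMap.zero_apply]
  · obtain ⟨v, rfl⟩ := (kerTensor_injective_range d₁ M).2.ge hz
    have he : Function.Surjective (d₀.codRestrict (ker d₁) fun x => h0.le ⟨x, rfl⟩) := fun y => by
      obtain ⟨x, hx⟩ := h0.ge y.2
      exact ⟨x, Subtype.ext hx⟩
    obtain ⟨w, rfl⟩ := rTensor_surjective M he v
    exact ⟨w, by rw [← rTensor_comp_apply]; rfl⟩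

theorem flat_prod (M N : Type u) [AddCommGroup M] [Module A M] [AddCommGroup N] [Module A N]
    [Module.Flat A M] [Module.Flat A N] : Module.Flat A (M × N) := by
  haveI : Module.Flat A (ker (LinearMap.snd A M N)) :=
    Module.Flat.of_retract ((LinearMap.fst A M N).comp (ker (LinearMap.snd A M N)).subtype)
      (LinearMap.codRestrict _ (LinearMap.inl A M N) fun _ => rfl)
      (LinearMap.ext fun x => Subtype.ext (Prod.ext rfl x.2.symm))
  haveI : Module.Flat A ((M × N) ⧸ ker (LinearMap.snd A M N)) :=
    Module.Flat.of_linearEquiv ((LinearMap.snd A M N).quotKerEquivOfSurjective LinearMap.snd_surjective)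
  exact flat_of_extension (ker (LinearMap.snd A M N))

open CochainComplex HomologicalComplex in
theorem flat_mappingCone {C D : CochainComplex (ModuleCat.{u} A) ℤ} (φ : C ⟶ D)
    (hC : ∀ i, Module.Flat A (C.X i)) (hD : ∀ i, Module.Flat A (D.X i)) (i : ℤ) :
    Module.Flat A ((mappingCone φ).X i) := by
  haveI := hC (i + 1)
  haveI := hD i
  haveI : Module.Flat A ((C.X (i + 1) : Type u) × (D.X i : Type u)) := flat_prod _ _
  let f₁ := ((mappingCone.fst φ).1.v i (i + 1) rfl).hom
  let f₂ := ((mappingCone.snd φ).v i i (add_zero i)).hom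
  let g₁ := ((mappingCone.inl φ).v (i + 1) i (by omega)).hom
  let g₂ := ((mappingCone.inr φ).f i).hom
  refine Module.Flat.of_retract (f₁.prod f₂) (g₁.coprod g₂) ?_
  ext x
  exact ConcreteCategory.congr_hom (mappingCone.id_X φ i (i + 1) rfl) x

open CochainComplex HomologicalComplex in
theorem quasiIso_tensorRight_map {C D : CochainComplex (ModuleCat.{u} A) ℤ}
    (hC : ∀ i, Module.Flat A (C.X i)) (hD : ∀ i, Module.Flat A (D.X i))
    (bC : ∃ b : ℤ, ∀ i, b < i → IsZero (C.X i)) (bD : ∃ b : ℤ, ∀ i, b < i → IsZero (D.X i))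
    (φ : C ⟶ D) [QuasiIso φ] (M : ModuleCat.{u} A) :
    QuasiIso (((tensorRight M).mapHomologicalComplex (ComplexShape.up ℤ)).map φ) := by
  obtain ⟨b₁, hb₁⟩ := bC
  obtain ⟨b₂, hb₂⟩ := bD
  have hiff : ∀ {C D : CochainComplex (ModuleCat.{u} A) ℤ} (φ : C ⟶ D),
      QuasiIso φ ↔ ∀ n, (mappingCone φ).ExactAt n := by
    intro C D φ
    rw [← HomotopyCategory.quotient_obj_mem_subcategoryAcyclic_iff_exactAt,
      ← mem_quasiIso_iff, ← HomotopyCategory.quotient_map_mem_quasiIso_iff,
      HomotopyCategory.quasiIso_eq_trW_subcategoryAcyclic]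
    exact (HomotopyCategory.subcategoryAcyclic _).trW_iff_of_distinguished _
        (HomotopyCategory.mappingCone_triangleh_distinguished φ)
  rw [hiff]
  intro n
  refine HomologicalComplex.ExactAt.of_iso ?_ (mappingCone.mapHomologicalComplexIso φ (tensorRight M))
  refine exactAt_tensor _ (flat_mappingCone φ hC hD) (max b₁ b₂) (fun i hi => ?_) ((hiff φ).mp inferInstance) M n
  rw [mappingCone.isZero_X_iff]
  exact ⟨hb₁ _ (by omega), hb₂ _ (by omega)⟩

theorem flat_of_injective_forall_maximal [IsNoetherianRing A] {C F : Type u} [AddCommGroup C]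
    [Module A C] [AddCommGroup F] [Module A F] [Module.Finite A C] [Module.Finite A F] [Module.Flat A F]
    (δ : C →ₗ[A] F) (h : ∀ (m : Ideal A) [m.IsMaximal], Injective (δ.lTensor (A ⧸ m))) :
    Module.Flat A (F ⧸ range δ) := by
  refine Module.flat_of_localized_maximal _ fun m hm => ?_
  haveI := hm
  let R := Localization.AtPrime m
  let k := IsLocalRing.ResidueField R
  haveI : Module.FinitePresentation R (R ⊗[A] F) := Module.finitePresentation_of_finite R _
  haveI : Module.Free R (R ⊗[A] F) := Module.free_of_flat_of_isLocalRing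
  let e : (A ⧸ m) ≃ₐ[A] k := AlgEquiv.ofRingEquiv (f := IsLocalization.AtPrime.equivQuotMaximalIdeal m R)
    (fun a => IsLocalization.AtPrime.equivQuotMaximalIdeal_apply_mk m R a)
  have hk : Injective (δ.lTensor k) := by
    intro x y hxy
    apply (e.symm.toLinearEquiv.rTensor C).injective
    apply h m
    show δ.lTensor _ (e.symm.toLinearEquiv.toLinearMap.rTensor C x) =
      δ.lTensor _ (e.symm.toLinearEquiv.toLinearMap.rTensor C y)
    rw [← rTensor_lTensor_swap, ← rTensor_lTensor_swap, hxy]
  have hinj : Injective ((δ.baseChange R).lTensor k) := by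
    let cC := AlgebraTensorModule.cancelBaseChange A R k k C
    let cF := AlgebraTensorModule.cancelBaseChange A R k k F
    have hnat : ∀ z, δ.lTensor k (cC z) = cF ((δ.baseChange R).lTensor k z) := by
      intro z
      induction z using TensorProduct.induction_on with
      | zero => simp only [map_zero]
      | tmul x w =>
        induction w using TensorProduct.induction_on with
        | zero => simp
        | tmul r c => simp [cC, cF]
        | add a b ha hb => simp only [tmul_add, map_add, ha, hb]
      | add a b ha hb => simp only [map_add, ha, hb]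
    intro x y hxy
    exact cC.injective (hk (by rw [hnat, hnat, hxy]))
  haveI : Module.Free R (R ⊗[A] (F ⧸ range δ)) :=
    Module.free_of_lTensor_residueField_injective (δ.baseChange R) ((range δ).mkQ.baseChange R)
      (fun z => lTensor_surjective R (Submodule.mkQ_surjective _) z)
      (lTensor_exact R δ.exact_map_mkQ_range (Submodule.mkQ_surjective _)) hinj
  haveI : Module.Flat A (R ⊗[A] (F ⧸ range δ)) := Module.Flat.trans A R _
  exact Module.Flat.of_linearEquiv
    ((LocalizedModule.equivTensorProduct m.primeCompl (F ⧸ range δ)).restrictScalars A)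
where
  rTensor_lTensor_swap {C F : Type u} [AddCommGroup C] [Module A C] [AddCommGroup F] [Module A F]
      {M N : Type u} [AddCommGroup M] [Module A M] [AddCommGroup N] [Module A N] {g : M →ₗ[A] N}
      {δ : C →ₗ[A] F} (z : M ⊗[A] C) : g.rTensor F (δ.lTensor M z) = δ.lTensor N (g.rTensor C z) := by
    induction z using TensorProduct.induction_on with
    | zero => simp
    | tmul c a => simp
    | add a b ha hb => simp only [map_add, ha, hb]

end Groth.Agent.FlatCx
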