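import Groth.Agent.FlatCx.Bridge
import Mathlib.RingTheory.Flat.Stability
import Mathlib.RingTheory.Flat.FaithfullyFlat.Basic

/-! Base change of `δ_p`. -/

open CategoryTheory CategoryTheory.Limits TensorProduct LinearMap

universe u

namespace Groth.Agent.FlatCx

variable {A : Type u} [CommRing A] (B : Type u) [CommRing B] [Algebra A B]

/-- Extension of scalars as the base change. -/
noncomputable def eB (X : ModuleCat.{u} A) :
    (ModuleCat.extendScalars (algebraMap A B)).obj X ≃ₗ[B] B ⊗[A] (X : Type u) :=
  let S' := (ModuleCat.restrictScalars (algebraMap A B)).obj (ModuleCat.of B B)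
  let e₀ : S' ≃ₗ[A] B :=
    { toFun := fun s => s
      invFun := fun s => s
      left_inv := fun _ => rfl
      right_inv := fun _ => rfl
      map_add' := fun _ _ => rfl
      map_smul' := fun a (s : B) => (Algebra.smul_def a s).symm }
  let e : TensorProduct A S' X ≃ₗ[A] B ⊗[A] (X : Type u) := TensorProduct.congr e₀ (.refl A _)
  { toFun := fun z => e z
    invFun := fun z => e.symm z
    left_inv := fun z => e.symm_apply_apply z
    right_inv := fun z => e.apply_symm_apply z
    map_add' := fun x y => e.map_add x y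
    map_smul' := fun b z => by
      show e (b • z) = b • e z
      induction z using TensorProduct.induction_on with
      | zero =>
        exact ((congrArg e (smul_zero (A := (ModuleCat.extendScalars (algebraMap A B)).obj X) b)).trans e.map_zero).trans
          ((congrArg (b • ·) e.map_zero).trans (smul_zero b)).symm
      | tmul s m => rfl
      | add x y hx hy =>
        exact ((congrArg e (smul_add (A := (ModuleCat.extendScalars (algebraMap A B)).obj X) b x y)).trans ((e.map_add _ _).trans
          (congrArg₂ (· + ·) hx hy))).trans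
          ((smul_add b _ _).symm.trans (congrArg (b • ·) (e.map_add x y).symm)) }

theorem eB_naturality {X Y : ModuleCat.{u} A} (g : X ⟶ Y)
    (z : (ModuleCat.extendScalars (algebraMap A B)).obj X) :
    eB B Y (((ModuleCat.extendScalars (algebraMap A B)).map g).hom z) =
      g.hom.baseChange B (eB B X z) := by
  have h0 : ∀ {X : ModuleCat.{u} A}, eB B X 0 = 0 := fun {X} => map_zero _
  induction z using TensorProduct.induction_on with
  | zero =>
    refine ((congrArg (eB B Y) (map_zero _)).trans h0).trans ?_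
    exact ((congrArg (g.hom.baseChange B) h0).trans (map_zero _)).symm
  | tmul s m => rfl
  | add x y hx hy =>
    refine ((congrArg (eB B Y) (map_add _ x y)).trans (map_add _ _ _)).trans ?_
    exact (congrArg₂ (· + ·) hx hy).trans
      ((map_add _ _ _).symm.trans (congrArg (g.hom.baseChange B) (map_add _ x y).symm))

variable (P : ChainComplex (ModuleCat.{u} A) ℤ) (p : ℤ)

theorem baseChange_comp_mkQ_surjective :
    Function.Surjective ((range (P.d (p + 1) p).hom).mkQ.baseChange B) := by
  rw [baseChange_eq_ltensor]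
  exact lTensor_surjective B (Submodule.mkQ_surjective _)

theorem ker_baseChange_mkQ :
    range ((P.d (p + 1) p).hom.baseChange B) =
      ker ((range (P.d (p + 1) p).hom).mkQ.baseChange B) := by
  ext z
  exact ((lTensor_exact B (P.d (p + 1) p).hom.exact_map_mkQ_range
    (Submodule.mkQ_surjective _)) z).symm

theorem map_eB_range :
    (range ((CohIII.bcCx (algebraMap A B) P).d (p + 1) p).hom).map (eB B (P.X p)).toLinearMap =
      range ((P.d (p + 1) p).hom.baseChange B) := by
  ext z
  constructor
  · rintro ⟨_, ⟨w, rfl⟩, rfl⟩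
    exact ⟨eB B _ w, (eB_naturality B (P.d (p + 1) p) w).symm⟩
  · rintro ⟨w, rfl⟩
    obtain ⟨w, rfl⟩ := (eB B (P.X (p + 1))).surjective w
    exact ⟨_, ⟨w, rfl⟩, eB_naturality B (P.d (p + 1) p) w⟩

/-- Base change of `coker d_{p+1}`. -/
noncomputable def cqBC : Cq (CohIII.bcCx (algebraMap A B) P) p ≃ₗ[B] B ⊗[A] Cq P p :=
  Submodule.Quotient.equiv _ _ (eB B (P.X p)) (map_eB_range B P p) ≪≫ₗ
    Submodule.quotEquivOfEq _ _ (ker_baseChange_mkQ B P p) ≪≫ₗ
      quotKerEquivOfSurjective _ (baseChange_comp_mkQ_surjective B P p)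

theorem cqBC_mk (z : (ModuleCat.extendScalars (algebraMap A B)).obj (P.X p)) :
    cqBC B P p (Submodule.Quotient.mk z) =
      (range (P.d (p + 1) p).hom).mkQ.baseChange B (eB B (P.X p) z) := rfl

theorem cqBC_δ (q : ℤ) (c : Cq (CohIII.bcCx (algebraMap A B) P) p) :
    (δ P p q).baseChange B (cqBC B P p c) =
      eB B (P.X q) (δ (CohIII.bcCx (algebraMap A B) P) p q c) := by
  induction c using Submodule.Quotient.induction_on with
  | H z =>
    rw [cqBC_mk, ← LinearMap.comp_apply, ← baseChange_comp, δ_comp_mkQ]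
    exact (eB_naturality B (P.d p q) z).symm

/-- `H_p(P ⊗ B) = ker (δ_p ⊗ B)`. -/
noncomputable def bcHomologyEquivKer {q : ℤ} (hpq : q + 1 = p) :
    (CohIII.bcCx (algebraMap A B) P).homology p ≃ₗ[B] ker ((δ P p q).baseChange B) :=
  homologyEquivKer _ p hpq ≪≫ₗ LinearEquiv.ofSubmodules (cqBC B P p) _ _ (by
    ext z
    obtain ⟨c, rfl⟩ := (cqBC B P p).surjective z
    rw [Submodule.map_equiv_eq_comap_symm, Submodule.mem_comap]
    simp only [LinearEquiv.coe_coe, LinearEquiv.symm_apply_apply, mem_ker]
    rw [cqBC_δ, map_eq_zero_iff _ (eB B (P.X q)).injective]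
    rfl)

theorem flat_bcCx (hP : ∀ i, Module.Flat A (P.X i)) (i : ℤ) :
    Module.Flat B ((CohIII.bcCx (algebraMap A B) P).X i) :=
  haveI := hP i
  Module.Flat.of_linearEquiv (eB B (P.X i))

theorem preservesMono_bc_iff (hP : ∀ i, Module.Flat A (P.X i)) :
    (CohIII.TFun (CohIII.bcCx (algebraMap A B) P) p).PreservesMonomorphisms ↔
      Module.Flat B (B ⊗[A] Cq P p) := by
  rw [preservesMono_iff_flat _ _ (flat_bcCx B P hP)]
  exact Module.Flat.equiv_iff (cqBC B P p)

theorem preservesEpi_bc_iff (hP : ∀ i, Module.Flat A (P.X i)) {q : ℤ} (hpq : q + 1 = p) :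
    (CohIII.TFun (CohIII.bcCx (algebraMap A B) P) p).PreservesEpimorphisms ↔
      Module.Flat B (B ⊗[A] Cq P q) := by
  rw [preservesEpi_iff_flat _ _ (flat_bcCx B P hP) hpq]
  exact Module.Flat.equiv_iff (cqBC B P q)

end Groth.Agent.FlatCx
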