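import Mathlib.Algebra.Category.ModuleCat.Descent
import Mathlib.Algebra.Category.ModuleCat.Monoidal.Adjunction
import Mathlib.Algebra.Category.ModuleCat.Projective
import Mathlib.Algebra.Category.ModuleCat.Colimits
import Mathlib.Algebra.Homology.ShortComplex.PreservesHomology
import Mathlib.Algebra.Homology.QuasiIso
import Mathlib.CategoryTheory.Abelian.LeftDerived
import Mathlib.CategoryTheory.Monoidal.Tor
import Mathlib.RingTheory.RingHom.Flat
import Groth.Agent.FlatCx.BC
import Groth.Prelude.Def_DRing2

/-! Tor commutes with flat base change. -/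

open CategoryTheory CategoryTheory.Limits MonoidalCategory

universe u

namespace Groth.Agent.FlatCx

variable {A B : Type u} [CommRing A] [CommRing B] [Algebra A B]

theorem preservesProjective_extendScalars (X : ModuleCat.{u} A) [Projective X] :
    Projective ((ModuleCat.extendScalars (algebraMap A B)).obj X) :=
  (ModuleCat.extendRestrictScalarsAdj (algebraMap A B)).map_projective X inferInstance

/-- The base change of a projective resolution along a flat ring map. -/
noncomputable def bcResolution [Module.Flat A B] {N : ModuleCat.{u} A} (R : ProjectiveResolution N) :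
    ProjectiveResolution ((ModuleCat.extendScalars (algebraMap A B)).obj N) :=
  haveI : PreservesFiniteLimits (ModuleCat.extendScalars.{u, u, u} (algebraMap A B)) :=
    ModuleCat.preservesFiniteLimits_extendScalars_of_flat (RingHom.flat_algebraMap_iff.mpr inferInstance)
  { complex := ((ModuleCat.extendScalars (algebraMap A B)).mapHomologicalComplex _).obj R.complex
    projective := fun n => preservesProjective_extendScalars (R.complex.X n)
    π := ((ModuleCat.extendScalars (algebraMap A B)).mapHomologicalComplex _).map R.π ≫
      ((HomologicalComplex.singleMapHomologicalComplex (ModuleCat.extendScalars (algebraMap A B))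
        (ComplexShape.down ℕ) 0).app N).hom
    quasiIso := inferInstance }

/-- `B ⊗ Tor_n(M, N) = Tor_n(B ⊗ M, B ⊗ N)`. -/
noncomputable def torBCIso [Module.Flat A B] (M N : ModuleCat.{u} A) (n : ℕ) :
    (ModuleCat.extendScalars (algebraMap A B)).obj (((CategoryTheory.Tor (ModuleCat.{u} A) n).obj M).obj N) ≅
      ((CategoryTheory.Tor (ModuleCat.{u} B) n).obj ((ModuleCat.extendScalars (algebraMap A B)).obj M)).obj
        ((ModuleCat.extendScalars (algebraMap A B)).obj N) :=
  haveI : PreservesFiniteLimits (ModuleCat.extendScalars.{u, u, u} (algebraMap A B)) :=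
    ModuleCat.preservesFiniteLimits_extendScalars_of_flat (RingHom.flat_algebraMap_iff.mpr inferInstance)
  let F := ModuleCat.extendScalars.{u, u, u} (algebraMap A B)
  let R := projectiveResolution N
  let C := ((tensorLeft M).mapHomologicalComplex (ComplexShape.down ℕ)).obj R.complex
  F.mapIso (R.isoLeftDerivedObj (tensorLeft M) n) ≪≫
    ((C.sc n).mapHomologyIso F).symm ≪≫
    (HomologicalComplex.homologyFunctor (ModuleCat.{u} B) (ComplexShape.down ℕ) n).mapIso
      ((NatIso.mapHomologicalComplex (Functor.Monoidal.commTensorLeft F M) (ComplexShape.down ℕ)).app R.complex).symm ≪≫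
    ((bcResolution R).isoLeftDerivedObj (tensorLeft (F.obj M)) n).symm

/-- Isomorphic modules have isomorphic `Tor`. -/
noncomputable def torCongr {M M' N N' : ModuleCat.{u} A} (e : M ≅ M') (f : N ≅ N') (n : ℕ) :
    ((CategoryTheory.Tor (ModuleCat.{u} A) n).obj M).obj N ≅
      ((CategoryTheory.Tor (ModuleCat.{u} A) n).obj M').obj N' :=
  ((CategoryTheory.Tor (ModuleCat.{u} A) n).mapIso e).app N ≪≫
    ((CategoryTheory.Tor (ModuleCat.{u} A) n).obj M').mapIso f

theorem tor_baseChange [Module.Flat A B] (P Q : Type u) [AddCommGroup P] [Module A P] [AddCommGroup Q]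
    [Module A Q] (n : ℕ) :
    Nonempty (TensorProduct A B (DRing.Tor A n P Q) ≃ₗ[B]
      DRing.Tor B n (TensorProduct A B P) (TensorProduct A B Q)) :=
  ⟨(eB B _).symm ≪≫ₗ
    (torBCIso (ModuleCat.of A P) (ModuleCat.of A Q) n ≪≫
      torCongr (eB B (ModuleCat.of A P)).toModuleIso (eB B (ModuleCat.of A Q)).toModuleIso n).toLinearEquiv⟩

end Groth.Agent.FlatCx
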