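import Groth.Agent.FlatCx.Bridge
import Mathlib.CategoryTheory.Linear.Yoneda
import Mathlib.RingTheory.TensorProduct.Finite
import Mathlib.LinearAlgebra.Dual.Lemmas
import Mathlib.LinearAlgebra.Contraction
import Mathlib.RingTheory.Flat.EquationalCriterion
import Mathlib.RingTheory.Noetherian.Basic

/-! Corepresentability of left exact `T_p`. -/

open CategoryTheory CategoryTheory.Limits MonoidalCategory TensorProduct LinearMap Opposite

universe u

namespace Groth.Agent.FlatCx

variable {A : Type u} [CommRing A] {C F : Type u} [AddCommGroup C] [Module A C] [AddCommGroup F]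
  [Module A F]

/-- `C ⊗ M → Hom(C*, M)`. -/
noncomputable def toHomDual (C : Type u) [AddCommGroup C] [Module A C] (M : Type u) [AddCommGroup M]
    [Module A M] : C ⊗[A] M →ₗ[A] (Module.Dual A C →ₗ[A] M) :=
  dualTensorHom A (Module.Dual A C) M ∘ₗ (Module.Dual.eval A C).rTensor M

@[simp] theorem toHomDual_tmul (C : Type u) [AddCommGroup C] [Module A C] (M : Type u) [AddCommGroup M]
    [Module A M] (c : C) (m : M) (φ : Module.Dual A C) : toHomDual C M (c ⊗ₜ m) φ = φ c • m := by
  simp [toHomDual]

theorem toHomDual_bijective (C : Type u) [AddCommGroup C] [Module A C] [Module.Finite A C]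
    [Module.Projective A C] (M : Type u) [AddCommGroup M] [Module A M] :
    Function.Bijective (toHomDual (A := A) C M) := by
  show Function.Bijective (dualTensorHom A (Module.Dual A C) M ∘ (Module.Dual.eval A C).rTensor M)
  refine Function.Bijective.comp (dualTensorHomEquiv A (Module.Dual A C) M).bijective ?_
  exact ((Module.evalEquiv A C).rTensor M).bijective

theorem toHomDual_rTensor (δ : C →ₗ[A] F) (M : Type u) [AddCommGroup M] [Module A M] (z : C ⊗[A] M) :
    toHomDual F M (δ.rTensor M z) = toHomDual C M z ∘ₗ δ.dualMap := by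
  induction z using TensorProduct.induction_on with
  | zero => simp
  | tmul c m => ext φ; simp
  | add x y hx hy => simp [map_add, hx, hy, LinearMap.add_comp]

theorem toHomDual_lTensor {M N : Type u} [AddCommGroup M] [Module A M] [AddCommGroup N] [Module A N]
    (g : M →ₗ[A] N) (z : C ⊗[A] M) : toHomDual C N (g.lTensor C z) = g ∘ₗ toHomDual C M z := by
  induction z using TensorProduct.induction_on with
  | zero => simp
  | tmul c m => ext φ; simp
  | add x y hx hy => simp [map_add, hx, hy, LinearMap.comp_add]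

/-- The corepresenting module. -/
abbrev Qm (δ : C →ₗ[A] F) : Type u := Module.Dual A C ⧸ range δ.dualMap

/-- `ker (δ ⊗ M) = Hom(coker δ*, M)`. -/
noncomputable def kerEquivHom (δ : C →ₗ[A] F) [Module.Finite A C] [Module.Projective A C]
    [Module.Finite A F] [Module.Projective A F] (M : Type u) [AddCommGroup M] [Module A M] :
    ker (δ.rTensor M) ≃ₗ[A] (Qm δ →ₗ[A] M) :=
  LinearEquiv.ofBijective
    ({ toFun := fun z => (range δ.dualMap).liftQ (toHomDual C M z.1) (by
          rintro _ ⟨ψ, rfl⟩
          rw [mem_ker, ← LinearMap.comp_apply, ← toHomDual_rTensor, show δ.rTensor M z.1 = 0 from z.2]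
          simp)
       map_add' := fun x y => by ext; simp
       map_smul' := fun r x => by ext; simp } : ker (δ.rTensor M) →ₗ[A] (Qm δ →ₗ[A] M))
    (by
      constructor
      · intro x y h
        apply Subtype.ext
        apply (toHomDual_bijective C M).1
        ext φ
        exact LinearMap.congr_fun h (Submodule.Quotient.mk φ)
      · intro f
        obtain ⟨z, hz⟩ := (toHomDual_bijective C M).2 (f ∘ₗ (range δ.dualMap).mkQ)
        refine ⟨⟨z, (toHomDual_bijective F M).1 ?_⟩, ?_⟩
        · rw [toHomDual_rTensor, hz, map_zero, LinearMap.comp_assoc, (δ.dualMap.exact_map_mkQ_range).linearMap_comp_eq_zero, LinearMap.comp_zero]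
        · ext φ
          simp [hz])

theorem kerEquivHom_mk (δ : C →ₗ[A] F) [Module.Finite A C] [Module.Projective A C]
    [Module.Finite A F] [Module.Projective A F] (M : Type u) [AddCommGroup M] [Module A M]
    (z : ker (δ.rTensor M)) (φ : Module.Dual A C) :
    kerEquivHom δ M z (Submodule.Quotient.mk φ) = toHomDual C M z.1 φ := rfl

variable (P : ChainComplex (ModuleCat.{u} A) ℤ) (p : ℤ)

/-- `T_p(M) = Hom(Q, M)` for `C` and `F` projective and finite. -/
noncomputable def corepIso {q : ℤ} (hpq : q + 1 = p) [Module.Finite A (Cq P p)]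
    [Module.Projective A (Cq P p)] [Module.Finite A (P.X q)] [Module.Projective A (P.X q)] :
    CohIII.TFun P p ≅ (linearCoyoneda A (ModuleCat.{u} A)).obj (op (ModuleCat.of A (Qm (δ P p q)))) :=
  NatIso.ofComponents
    (fun M => LinearEquiv.toModuleIso
      (tEquivKer P p M hpq ≪≫ₗ kerEquivHom (δ P p q) M ≪≫ₗ
        (ModuleCat.homLinearEquiv (S := A) (M := ModuleCat.of A (Qm (δ P p q))) (N := M)).symm))
    (fun {M N} g => by
      ext x
      apply ModuleCat.hom_ext
      refine Submodule.linearMap_qext _ (LinearMap.ext fun φ => ?_)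
      show toHomDual _ N (tEquivKer P p N hpq (((CohIII.TFun P p).map g).hom x)).1 φ =
        g.hom (toHomDual _ M (tEquivKer P p M hpq x).1 φ)
      rw [tEquivKer_apply, tEquivKer_apply, θ_naturality, toHomDual_lTensor]
      rfl)

theorem preservesMonomorphisms_of_iso (Q : ModuleCat.{u} A)
    (e : CohIII.TFun P p ≅ (linearCoyoneda A (ModuleCat.{u} A)).obj (op Q)) :
    (CohIII.TFun P p).PreservesMonomorphisms := by
  haveI : ((linearCoyoneda A (ModuleCat.{u} A)).obj (op Q)).PreservesMonomorphisms := by
    constructor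
    intro M N g hg
    rw [ModuleCat.mono_iff_injective]
    intro a b h
    exact (cancel_mono g).mp h
  exact Functor.preservesMonomorphisms.of_iso e.symm

theorem finite_of_iso (hP : ∀ i, Module.Flat A (P.X i)) (Q : ModuleCat.{u} A)
    (e : CohIII.TFun P p ≅ (linearCoyoneda A (ModuleCat.{u} A)).obj (op Q)) :
    Module.Finite A Q := by
  classical
  have hq := sub_add_cancel p 1
  let x : (CohIII.TFun P p).obj Q := (e.inv.app Q).hom (𝟙 Q)
  obtain ⟨S, hS⟩ := TensorProduct.exists_finset (θ P p Q x)
  let Q₀ : Submodule A Q := Submodule.span A (Set.range fun i : S => i.1.2)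
  let ι : ModuleCat.of A Q₀ ⟶ Q := ModuleCat.ofHom Q₀.subtype
  let w : Cq P p ⊗[A] Q₀ := ∑ i : S, i.1.1 ⊗ₜ (⟨i.1.2, Submodule.subset_span ⟨i, rfl⟩⟩ : Q₀)
  have hw : Q₀.subtype.lTensor _ w = θ P p Q x := by
    rw [hS, map_sum, ← Finset.sum_coe_sort S]
    rfl
  have hker : (δ P p (p - 1)).rTensor Q₀ w = 0 := by
    haveI := hP (p - 1)
    apply Module.Flat.lTensor_preserves_injective_linearMap (M := P.X (p - 1)) Q₀.subtype
      Subtype.val_injective
    rw [map_zero, ← rTensor_lTensor, hw]
    exact (mem_range_θ P p Q hq _).mp ⟨x, rfl⟩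
  obtain ⟨x₀, hx₀⟩ := (mem_range_θ P p (ModuleCat.of A Q₀) hq w).mpr hker
  have hx : ((CohIII.TFun P p).map ι).hom x₀ = x :=
    θ_injective P p Q (by rw [θ_naturality, hx₀]; exact hw)
  let f : Q ⟶ ModuleCat.of A Q₀ := (e.hom.app (ModuleCat.of A Q₀)).hom x₀
  have hf : f ≫ ι = 𝟙 Q := by
    have h1 := ConcreteCategory.congr_hom (e.hom.naturality ι) x₀
    have h2 : (e.hom.app Q).hom x = 𝟙 Q := ConcreteCategory.congr_hom (e.inv_hom_id_app Q) (𝟙 Q)
    rw [← hx] at h2
    exact h1.symm.trans h2
  haveI : Module.Finite A Q₀ := Module.Finite.iff_fg.mpr ⟨Finset.image (fun i : S => i.1.2) Finset.univ, by simp [Q₀]⟩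
  exact Module.Finite.of_surjective Q₀.subtype fun y =>
    ⟨f.hom y, LinearMap.congr_fun (congrArg ModuleCat.Hom.hom hf) y⟩

end Groth.Agent.FlatCx
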