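import Mathlib.Algebra.Category.ModuleCat.Monoidal.Closed
import Mathlib.Algebra.Category.ModuleCat.Monoidal.Symmetric
import Mathlib.Algebra.Category.ModuleCat.Abelian
import Mathlib.Algebra.Category.ModuleCat.Colimits
import Mathlib.Algebra.Homology.ShortComplex.ExactFunctor
import Mathlib.Algebra.Homology.ShortComplex.ModuleCat
import Mathlib.CategoryTheory.Linear.LinearFunctor
import Mathlib.LinearAlgebra.FreeModule.Basic
import Mathlib.LinearAlgebra.Basis.VectorSpace
import Mathlib.RingTheory.Artinian.Module
import Mathlib.RingTheory.Artinian.Ring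
import Mathlib.LinearAlgebra.TensorProduct.RightExactness
import Mathlib.Algebra.Module.Torsion.Basic
import Mathlib.RingTheory.LocalRing.ResidueField.Basic

/-! Linear functors on modules: the comparison map `T(A) ⊗ M → T(M)`. -/

open CategoryTheory CategoryTheory.Limits MonoidalCategory TensorProduct LinearMap Function

universe u

namespace Groth.Agent.FlatCx

variable {A : Type u} [CommRing A] (T : ModuleCat.{u} A ⥤ ModuleCat.{u} A) [T.Additive] [T.Linear A]

/-- The canonical map `T(A) ⊗ M → T(M)`. -/
noncomputable abbrev tMap (M : ModuleCat.{u} A) :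
    TensorProduct A (T.obj (ModuleCat.of A A)) M →ₗ[A] T.obj M :=
  TensorProduct.lift (LinearMap.flip
        ((ModuleCat.homLinearEquiv (S := A)).toLinearMap ∘ₗ Functor.mapLinearMap A T ∘ₗ
          (ModuleCat.homLinearEquiv (S := A)).symm.toLinearMap ∘ₗ
            (LinearMap.ringLmapEquivSelf A A M).symm.toLinearMap))

theorem tMap_tmul (M : ModuleCat.{u} A) (y : T.obj (ModuleCat.of A A)) (x : M) :
    tMap T M (y ⊗ₜ x) = (T.map (ModuleCat.ofHom ((LinearMap.ringLmapEquivSelf A A M).symm x))).hom y := rfl

theorem tMap_naturality {M N : ModuleCat.{u} A} (g : M ⟶ N)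
    (z : TensorProduct A (T.obj (ModuleCat.of A A)) M) :
    (T.map g).hom (tMap T M z) = tMap T N (g.hom.lTensor _ z) := by
  induction z using TensorProduct.induction_on with
  | zero => simp
  | tmul y x =>
    rw [lTensor_tmul, tMap_tmul, tMap_tmul]
    rw [← LinearMap.comp_apply, ← ModuleCat.hom_comp, ← T.map_comp]
    congr 3
    ext
    simp
  | add a b ha hb => simp only [map_add, ha, hb]

/-- The comparison natural transformation. -/
noncomputable def tNat : tensorLeft (T.obj (ModuleCat.of A A)) ⟶ T where
  app M := ModuleCat.ofHom (tMap T M)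
  naturality M N g := by
    ext1
    refine LinearMap.ext fun z => ?_
    exact (tMap_naturality T g z).symm

theorem tMap_self_bijective : Bijective (tMap T (ModuleCat.of A A)) := by
  have h : ∀ z, tMap T (ModuleCat.of A A) z = TensorProduct.rid A _ z := by
    intro z
    induction z using TensorProduct.induction_on with
    | zero => simp
    | tmul y a =>
      rw [tMap_tmul, rid_tmul]
      have : ModuleCat.ofHom ((LinearMap.ringLmapEquivSelf A A (ModuleCat.of A A : Type u)).symm a) =
          a • 𝟙 (ModuleCat.of A A) := by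
        ext
        simp
      rw [this, T.map_smul, T.map_id]
      rfl
    | add a b ha hb => simp only [map_add, ha, hb]
  rw [show (tMap T (ModuleCat.of A A) : _ → _) = TensorProduct.rid A _ from funext h]
  exact (TensorProduct.rid A _).bijective

/-- The cofan exhibiting `ι →₀ K` as a coproduct. -/
noncomputable def finsuppCofan (ι : Type u) (K : ModuleCat.{u} A) : Cofan (fun _ : ι => K) :=
  Cofan.mk (ModuleCat.of A (ι →₀ K)) fun i => ModuleCat.ofHom (Finsupp.lsingle i)

/-- It is a colimit. -/
noncomputable def finsuppCofanIsColimit (ι : Type u) (K : ModuleCat.{u} A) :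
    IsColimit (finsuppCofan ι K) :=
  mkCofanColimit _ (fun s => ModuleCat.ofHom (Finsupp.lsum A fun i => (s.inj i).hom))
    (fun s i => by ext x; simp [finsuppCofan, Cofan.inj, Cofan.mk])
    (fun s m h => by
      ext1
      refine Finsupp.lhom_ext fun i x => ?_
      simpa [finsuppCofan, Cofan.inj, Cofan.mk] using ConcreteCategory.congr_hom (h i) x)

variable [∀ J : Type u, PreservesColimitsOfShape (Discrete J) T]

theorem tMap_finsupp_bijective (ι : Type u) (K : ModuleCat.{u} A) (hK : Bijective (tMap T K)) :
    Bijective (tMap T (ModuleCat.of A (ι →₀ K))) := by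
  let D := Discrete.functor fun _ : ι => K
  haveI : ∀ j, IsIso ((tNat T).app (D.obj j)) := fun j => (ConcreteCategory.isIso_iff_bijective _).mpr hK
  let η := Functor.whiskerLeft D (tNat T)
  haveI : ∀ j, IsIso (η.app j) := fun j =>
    (ConcreteCategory.isIso_iff_bijective _).mpr hK
  haveI : IsIso η := NatIso.isIso_of_isIso_app η
  let h₁ := isColimitOfPreserves (tensorLeft (T.obj (ModuleCat.of A A))) (finsuppCofanIsColimit ι K)
  let h₂ := isColimitOfPreserves T (finsuppCofanIsColimit ι K)
  let e := IsColimit.coconePointsIsoOfNatIso h₁ h₂ (asIso η)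
  have : (tNat T).app (ModuleCat.of A (ι →₀ K)) = e.hom := by
    refine h₁.hom_ext fun j => ?_
    refine Eq.trans ?_ (IsColimit.comp_coconePointsIsoOfNatIso_hom h₁ h₂ (asIso η) j).symm
    exact (tNat T).naturality ((finsuppCofan ι K).ι.app j)
  have hb : IsIso ((tNat T).app (ModuleCat.of A (ι →₀ K))) := this ▸ inferInstance
  exact (ConcreteCategory.isIso_iff_bijective _).mp hb

theorem tMap_finsupp_surjective (ι : Type u) (K : ModuleCat.{u} A) (hK : Surjective (tMap T K)) :
    Surjective (tMap T (ModuleCat.of A (ι →₀ K))) := by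
  let h₂ := isColimitOfPreserves T (finsuppCofanIsColimit ι K)
  have : Epi ((tNat T).app (ModuleCat.of A (ι →₀ K))) := by
    constructor
    intro Z a b hab
    refine h₂.hom_ext fun j => ?_
    haveI : Epi ((tNat T).app ((Discrete.functor fun _ : ι => K).obj j)) :=
      (ModuleCat.epi_iff_surjective _).mpr hK
    rw [← cancel_epi ((tNat T).app ((Discrete.functor fun _ : ι => K).obj j))]
    have := (tNat T).naturality ((finsuppCofan ι K).ι.app j)
    calc (tNat T).app _ ≫ T.map ((finsuppCofan ι K).ι.app j) ≫ a
        = ((tNat T).app _ ≫ T.map ((finsuppCofan ι K).ι.app j)) ≫ a := (Category.assoc _ _ _).symm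
      _ = ((tensorLeft _).map ((finsuppCofan ι K).ι.app j) ≫ (tNat T).app _) ≫ a := by
          exact congrArg (· ≫ a) this.symm
      _ = (tensorLeft _).map ((finsuppCofan ι K).ι.app j) ≫ (tNat T).app _ ≫ b := by
          rw [Category.assoc]; exact congrArg _ hab
      _ = ((tensorLeft _).map ((finsuppCofan ι K).ι.app j) ≫ (tNat T).app _) ≫ b :=
          (Category.assoc _ _ _).symm
      _ = ((tNat T).app _ ≫ T.map ((finsuppCofan ι K).ι.app j)) ≫ b := congrArg (· ≫ b) this
      _ = _ := Category.assoc _ _ _
  exact (ModuleCat.epi_iff_surjective _).mp this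

omit [∀ J : Type u, PreservesColimitsOfShape (Discrete J) T] in
theorem tMap_bijective_of_linearEquiv {M N : ModuleCat.{u} A} (e : M ≅ N)
    (h : Bijective (tMap T M)) : Bijective (tMap T N) := by
  haveI : IsIso ((tNat T).app M) := (ConcreteCategory.isIso_iff_bijective _).mpr h
  have hb : IsIso ((tNat T).app N) := (NatTrans.isIso_app_iff_of_iso (tNat T) e).mp inferInstance
  exact (ConcreteCategory.isIso_iff_bijective _).mp hb

theorem tMap_bijective_of_free (L : ModuleCat.{u} A) [Module.Free A L] : Bijective (tMap T L) := by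
  let b := Module.Free.chooseBasis A L
  exact tMap_bijective_of_linearEquiv T b.repr.symm.toModuleIso
    (tMap_finsupp_bijective T _ (ModuleCat.of A A) (tMap_self_bijective T))

/-- A short complex from an exact pair of linear maps. -/
abbrev mkSC {M₁ M₂ M₃ : ModuleCat.{u} A} (f : M₁ ⟶ M₂) (g : M₂ ⟶ M₃) (h : Function.Exact f.hom g.hom) :
    ShortComplex (ModuleCat.{u} A) :=
  ShortComplex.mk f g (ModuleCat.hom_ext h.linearMap_comp_eq_zero)

theorem tMap_bijective_of_rightExact [PreservesFiniteColimits T] (M : ModuleCat.{u} A) :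
    Bijective (tMap T M) := by
  have htfae := ((T.preservesFiniteColimits_tfae).out 3 1).mp ‹PreservesFiniteColimits T›
  let π : ModuleCat.of A ((M : Type u) →₀ A) ⟶ M := ModuleCat.ofHom (Finsupp.linearCombination A _root_.id)
  have hπ : Surjective π.hom := fun m => ⟨Finsupp.single m 1, by simp [π]⟩
  let R := ModuleCat.of A (LinearMap.ker π.hom)
  let L := ModuleCat.of A ((R : Type u) →₀ A)
  let f : L ⟶ ModuleCat.of A ((M : Type u) →₀ A) :=
    ModuleCat.ofHom ((LinearMap.ker π.hom).subtype ∘ₗ Finsupp.linearCombination A _root_.id)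
  have hf : LinearMap.range f.hom = LinearMap.ker π.hom := by
    rw [ModuleCat.hom_ofHom, LinearMap.range_comp_of_range_eq_top, Submodule.range_subtype]
    rw [LinearMap.range_eq_top]
    exact fun m => ⟨Finsupp.single m 1, by rw [Finsupp.linearCombination_single, one_smul]; rfl⟩
  have hex : Function.Exact f.hom π.hom := LinearMap.exact_iff.mpr hf.symm
  haveI : Epi π := (ModuleCat.epi_iff_surjective _).mpr hπ
  obtain ⟨hT, hTe⟩ := htfae (mkSC f π hex)
    ⟨(ShortComplex.moduleCat_exact_iff_range_eq_ker _).mpr hf, inferInstance⟩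
  constructor
  · rw [injective_iff_map_eq_zero]
    intro z hz
    obtain ⟨w, rfl⟩ := lTensor_surjective _ hπ z
    obtain ⟨v, hv⟩ := ((ShortComplex.moduleCat_exact_iff _).mp hT) (tMap T _ w)
      ((tMap_naturality T π w).trans hz)
    obtain ⟨v', rfl⟩ := (tMap_bijective_of_free T L).2 v
    have : f.hom.lTensor _ v' = w :=
      (tMap_bijective_of_free T (ModuleCat.of A ((M : Type u) →₀ A))).1 ((tMap_naturality T f v').symm.trans hv)
    rw [← this, ← lTensor_comp_apply, hex.linearMap_comp_eq_zero, lTensor_zero, LinearMap.zero_apply]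
  · intro y
    obtain ⟨x, rfl⟩ := (ModuleCat.epi_iff_surjective _).mp hTe y
    obtain ⟨x', rfl⟩ := (tMap_bijective_of_free T (ModuleCat.of A ((M : Type u) →₀ A))).2 x
    exact ⟨π.hom.lTensor _ x', (tMap_naturality T π x').symm⟩

omit [∀ J : Type u, PreservesColimitsOfShape (Discrete J) T] in
theorem rightExact_of_bijective (h : ∀ M : ModuleCat.{u} A, Bijective (tMap T M)) :
    PreservesFiniteColimits T := by
  haveI : ∀ M, IsIso ((tNat T).app M) := fun M => (ConcreteCategory.isIso_iff_bijective _).mpr (h M)
  haveI : IsIso (tNat T) := NatIso.isIso_of_isIso_app _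
  exact preservesFiniteColimits_of_natIso (asIso (tNat T))

omit [∀ J : Type u, PreservesColimitsOfShape (Discrete J) T] in
theorem rightExact_of_surjective (hex : ∀ S : ShortComplex (ModuleCat.{u} A), S.ShortExact → (S.map T).Exact)
    (h : ∀ M : ModuleCat.{u} A, Surjective (tMap T M)) : PreservesFiniteColimits T := by
  have key : ∀ S : ShortComplex (ModuleCat.{u} A), S.ShortExact → (S.map T).Exact ∧ Epi (T.map S.g) := by
    intro S hS
    refine ⟨hex S hS, ?_⟩
    haveI := hS.epi_g
    have hg : Surjective S.g.hom := (ModuleCat.epi_iff_surjective _).mp inferInstance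
    rw [ModuleCat.epi_iff_surjective]
    intro y
    obtain ⟨z, rfl⟩ := h _ y
    obtain ⟨w, rfl⟩ := lTensor_surjective _ hg z
    exact ⟨tMap T _ w, tMap_naturality T S.g w⟩
  exact ((T.preservesFiniteColimits_tfae).out 0 3).mp key

omit [∀ J : Type u, PreservesColimitsOfShape (Discrete J) T] in
theorem halfExact_of_rightExact [PreservesFiniteColimits T] (S : ShortComplex (ModuleCat.{u} A))
    (hS : S.ShortExact) : (S.map T).Exact :=
  have h : ∀ S : ShortComplex (ModuleCat.{u} A), S.ShortExact → (S.map T).Exact ∧ Epi (T.map S.g) :=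
    ((T.preservesFiniteColimits_tfae).out 3 0).mp ‹PreservesFiniteColimits T›
  (h S hS).1

theorem tMap_surjective_of_field (K : Type u) [Field K] [Algebra A K]
    (hK : Surjective (tMap T (ModuleCat.of A K))) (Q : Type u) [AddCommGroup Q] [Module A Q] [Module K Q]
    [IsScalarTower A K Q] : Surjective (tMap T (ModuleCat.of A Q)) := by
  let b := Module.Free.chooseBasis K Q
  let e : ModuleCat.of A Q ≅ ModuleCat.of A (Module.Free.ChooseBasisIndex K Q →₀ K) :=
    (b.repr.restrictScalars A).toModuleIso
  intro y
  obtain ⟨z, hz⟩ := tMap_finsupp_surjective T _ (ModuleCat.of A K) hK ((T.map e.hom).hom y)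
  refine ⟨e.inv.hom.lTensor _ z, ?_⟩
  rw [← tMap_naturality]
  refine (congrArg (T.map e.inv).hom hz).trans ?_
  rw [← LinearMap.comp_apply, ← ModuleCat.hom_comp, ← T.map_comp, e.hom_inv_id, T.map_id]
  rfl

theorem tMap_surjective_artinian [IsArtinianRing A] [IsLocalRing A]
    (hex : ∀ S : ShortComplex (ModuleCat.{u} A), S.ShortExact → (S.map T).Exact)
    (hk : Surjective (T.map (ModuleCat.ofHom
      (Algebra.linearMap A (IsLocalRing.ResidueField A)))).hom) (M : ModuleCat.{u} A) :
    Surjective (tMap T M) := by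
  let m := IsLocalRing.maximalIdeal A
  let k := IsLocalRing.ResidueField A
  have hk' : Surjective (tMap T (ModuleCat.of A k)) := by
    intro y
    obtain ⟨x, rfl⟩ := hk y
    refine ⟨x ⊗ₜ (1 : k), ?_⟩
    rw [tMap_tmul]
    congr 3
    ext
    simp
  obtain ⟨n, hn⟩ : ∃ n, m ^ n = ⊥ := by
    have h := IsArtinianRing.isNilpotent_jacobson_bot (R := A)
    rwa [IsLocalRing.jacobson_eq_maximalIdeal ⊥ bot_ne_top] at h
  suffices ∀ (n : ℕ) (M : ModuleCat.{u} A), m ^ n • (⊤ : Submodule A M) = ⊥ → Surjective (tMap T M) from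
    this n M (by rw [hn, Submodule.bot_smul])
  intro n
  induction n with
  | zero =>
    intro M hM
    rw [pow_zero, Ideal.one_eq_top, Submodule.top_smul] at hM
    haveI : Subsingleton M := subsingleton_of_forall_eq 0 fun x =>
      (Submodule.mem_bot A).mp (hM ▸ Submodule.mem_top)
    haveI := ModuleCat.subsingleton_of_isZero (T.map_isZero (ModuleCat.isZero_of_subsingleton M))
    exact fun y => ⟨0, Subsingleton.elim _ _⟩
  | succ n ih =>
    intro M hM
    let N : Submodule A M := m • ⊤
    have hN : Surjective (tMap T (ModuleCat.of A N)) := by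
      apply ih
      apply Submodule.map_injective_of_injective N.injective_subtype
      rw [Submodule.map_smul'', Submodule.map_top, Submodule.range_subtype, Submodule.map_bot, ← hM,
        pow_succ, Submodule.mul_smul]
    have hQ : Surjective (tMap T (ModuleCat.of A ((M : Type u) ⧸ N))) :=
      letI := Ideal.Quotient.field m
      tMap_surjective_of_field T (A ⧸ m) hk' ((M : Type u) ⧸ N)
    intro y
    let i : ModuleCat.of A N ⟶ M := ModuleCat.ofHom N.subtype
    let π : M ⟶ ModuleCat.of A ((M : Type u) ⧸ N) := ModuleCat.ofHom N.mkQ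
    have hS : (mkSC i π (LinearMap.exact_subtype_mkQ N)).ShortExact :=
      { exact := (ShortComplex.moduleCat_exact_iff_range_eq_ker _).mpr (N.range_subtype.trans N.ker_mkQ.symm)
        mono_f := (ModuleCat.mono_iff_injective _).mpr N.injective_subtype
        epi_g := (ModuleCat.epi_iff_surjective _).mpr N.mkQ_surjective }
    obtain ⟨z, hz⟩ := hQ ((T.map π).hom y)
    obtain ⟨w, rfl⟩ := lTensor_surjective _ (show Surjective π.hom from N.mkQ_surjective) z
    obtain ⟨v, hv⟩ := (ShortComplex.moduleCat_exact_iff _).mp (hex _ hS) (y - tMap T M w)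
      ((map_sub _ _ _).trans (by rw [sub_eq_zero]; exact (hz.symm.trans (tMap_naturality T π w).symm)))
    obtain ⟨v', rfl⟩ := hN v
    refine ⟨i.hom.lTensor _ v' + w, ?_⟩
    rw [map_add, ← tMap_naturality]
    have hv' : (T.map i).hom (tMap T (ModuleCat.of A N) v') = y - tMap T M w := hv
    rw [hv', sub_add_cancel]

end Groth.Agent.FlatCx
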