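import Groth.Agent.FlatCx.Main
import Mathlib.RingTheory.FiniteLength
import Mathlib.RingTheory.Filtration
import Mathlib.RingTheory.LocalRing.Module
import Mathlib.RingTheory.Artinian.Module

/-! Flatness of extensions, surjectivity onto the residue field. -/

open CategoryTheory CategoryTheory.Limits MonoidalCategory TensorProduct LinearMap Function

universe u

namespace Groth.Agent.FlatCx

section
variable {A : Type u} [CommRing A] {C F : Type u} [AddCommGroup C] [Module A C] [AddCommGroup F]
  [Module A F]

theorem flat_of_flat_quotient (I : Submodule A F) [Module.Flat A F] [Module.Flat A (F ⧸ I)] :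
    Module.Flat A I := by
  rw [Module.Flat.iff_lTensor_preserves_injective_linearMap]
  intro N N' _ _ _ _ g hg x y hxy
  apply rTensor_injective_of_flat_quotient I N
  apply Module.Flat.lTensor_preserves_injective_linearMap (M := F) g hg
  rw [← rTensor_lTensor, ← rTensor_lTensor, hxy]

theorem flat_of_extension (K : Submodule A C) [Module.Flat A K] [Module.Flat A (C ⧸ K)] :
    Module.Flat A C := by
  rw [Module.Flat.iff_lTensor_preserves_injective_linearMap]
  intro M N _ _ _ _ g hg
  rw [injective_iff_map_eq_zero]
  intro x hx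
  have hex := LinearMap.exact_subtype_mkQ K
  have hq : K.mkQ.rTensor M x = 0 := by
    apply Module.Flat.lTensor_preserves_injective_linearMap (M := C ⧸ K) g hg
    rw [← rTensor_lTensor, hx, map_zero, map_zero]
  obtain ⟨y, rfl⟩ := (rTensor_exact M hex (Submodule.mkQ_surjective _) x).mp hq
  suffices y = 0 by rw [this, map_zero]
  apply Module.Flat.lTensor_preserves_injective_linearMap (M := K) g hg
  apply rTensor_injective_of_flat_quotient K N
  rw [rTensor_lTensor, hx, map_zero, map_zero]

theorem flat_of_flat_ker (δ : C →ₗ[A] F) [Module.Flat A F] [Module.Flat A (F ⧸ range δ)]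
    [Module.Flat A (ker δ)] : Module.Flat A C := by
  haveI := flat_of_flat_quotient (range δ)
  haveI : Module.Flat A (C ⧸ ker δ) := Module.Flat.of_linearEquiv δ.quotKerEquivRange
  exact flat_of_extension (ker δ)

/-- `ker δ ⊗ M → ker (δ ⊗ M)` is surjective. -/
def KerTensorSurj (δ : C →ₗ[A] F) (M : Type u) [AddCommGroup M] [Module A M] : Prop :=
  ker (δ.rTensor M) ≤ range ((ker δ).subtype.rTensor M)

theorem KerTensorSurj.injective {δ : C →ₗ[A] F} {M : Type u} [AddCommGroup M] [Module A M]
    (h : KerTensorSurj δ M) : Injective ((range δ).subtype.rTensor M) := by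
  rw [injective_iff_map_eq_zero]
  intro z hz
  obtain ⟨w, rfl⟩ := rTensor_surjective M δ.surjective_rangeRestrict z
  obtain ⟨v, rfl⟩ := h (show δ.rTensor M w = 0 by
    rw [← hz, ← LinearMap.comp_apply, ← rTensor_comp]; rfl)
  rw [← LinearMap.comp_apply, ← rTensor_comp]
  have : δ.rangeRestrict ∘ₗ (ker δ).subtype = 0 := LinearMap.ext fun x => Subtype.ext x.2
  rw [this, rTensor_zero, LinearMap.zero_apply]

theorem kerTensorSurj_of_injective (δ : C →ₗ[A] F) (M : Type u) [AddCommGroup M] [Module A M]
    (h : Injective ((range δ).subtype.rTensor M)) : KerTensorSurj δ M := by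
  intro x hx
  have hex : Exact (ker δ).subtype δ.rangeRestrict := by
    rw [LinearMap.exact_iff, LinearMap.ker_rangeRestrict, Submodule.range_subtype]
  refine (rTensor_exact M hex δ.surjective_rangeRestrict x).mp (h ?_)
  rw [map_zero, ← LinearMap.comp_apply, ← rTensor_comp]
  exact hx

theorem kerTensorSurj_self (δ : C →ₗ[A] F) : KerTensorSurj δ A := by
  refine kerTensorSurj_of_injective δ A ?_
  intro x y hxy
  obtain ⟨a, rfl⟩ : ∃ a, a ⊗ₜ (1 : A) = x := ⟨TensorProduct.rid A _ x, (TensorProduct.rid A _).symm_apply_apply x⟩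
  obtain ⟨b, rfl⟩ : ∃ b, b ⊗ₜ (1 : A) = y := ⟨TensorProduct.rid A _ y, (TensorProduct.rid A _).symm_apply_apply y⟩
  have := congrArg (TensorProduct.rid A F) hxy
  simp only [rTensor_tmul, TensorProduct.rid_tmul, one_smul, Submodule.subtype_apply] at this
  rw [Subtype.ext this]

/-- It suffices to test universal injectivity on finite modules. -/
theorem flat_quotient_of_injective_finite (I : Submodule A F) [Module.Flat A F]
    (h : ∀ (M : Type u) [AddCommGroup M] [Module A M] [Module.Finite A M],
      Injective (I.subtype.rTensor M)) : Module.Flat A (F ⧸ I) := by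
  rw [Module.Flat.iff_lTensor_injective']
  intro J
  rw [injective_iff_map_eq_zero]
  intro w hw
  obtain ⟨x, rfl⟩ := rTensor_surjective J (Submodule.mkQ_surjective I) w
  have hex := LinearMap.exact_subtype_mkQ I
  rw [← rTensor_lTensor] at hw
  obtain ⟨y, hy⟩ := (rTensor_exact A hex (Submodule.mkQ_surjective _) _).mp hw
  have hy0 : J.mkQ.lTensor I y = 0 := by
    apply h (A ⧸ J)
    rw [rTensor_lTensor, hy, ← LinearMap.comp_apply, ← lTensor_comp,
      (LinearMap.exact_subtype_mkQ J).linearMap_comp_eq_zero, lTensor_zero, LinearMap.zero_apply,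
      map_zero]
  obtain ⟨v, rfl⟩ := (lTensor_exact I (LinearMap.exact_subtype_mkQ J) (Submodule.mkQ_surjective _) y).mp hy0
  have hx : x = I.subtype.rTensor J v := by
    apply Module.Flat.lTensor_preserves_injective_linearMap (M := F) J.subtype Subtype.val_injective
    rw [← rTensor_lTensor, hy]
  rw [hx, ← LinearMap.comp_apply, ← rTensor_comp, hex.linearMap_comp_eq_zero, rTensor_zero,
    LinearMap.zero_apply]

theorem injective_rTensor_of_exact (I : Submodule A F) [Module.Flat A F]
    {M₁ M₂ M₃ : Type u} [AddCommGroup M₁] [Module A M₁] [AddCommGroup M₂] [Module A M₂]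
    [AddCommGroup M₃] [Module A M₃] (f : M₁ →ₗ[A] M₂) (g : M₂ →ₗ[A] M₃) (hf : Injective f)
    (hg : Surjective g) (hfg : Exact f g)
    (h₁ : Injective (I.subtype.rTensor M₁)) (h₃ : Injective (I.subtype.rTensor M₃)) :
    Injective (I.subtype.rTensor M₂) := by
  rw [injective_iff_map_eq_zero]
  intro z hz
  have h : g.lTensor I z = 0 := h₃ (by rw [rTensor_lTensor, hz, map_zero, map_zero])
  obtain ⟨w, rfl⟩ := (lTensor_exact I hfg hg z).mp h
  suffices w = 0 by rw [this, map_zero]
  apply h₁
  apply Module.Flat.lTensor_preserves_injective_linearMap (M := F) f hf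
  rw [← rTensor_lTensor, hz, map_zero, map_zero]

variable [IsLocalRing A]

/-- A simple module over a local ring is the residue field. -/
theorem exists_equiv_residueField (S : Type u) [AddCommGroup S] [Module A S] [IsSimpleModule A S] :
    Nonempty (S ≃ₗ[A] IsLocalRing.ResidueField A) := by
  obtain ⟨m, hm, ⟨e⟩⟩ := isSimpleModule_iff_quot_maximal.mp ‹IsSimpleModule A S›
  obtain rfl := IsLocalRing.eq_maximalIdeal hm
  exact ⟨e⟩

/-- Over an Artinian local ring, exactness at the residue field gives flatness of the cokernel. -/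
theorem flat_coker_of_kerTensorSurj_artinian [IsArtinianRing A] (δ : C →ₗ[A] F) [Module.Flat A F]
    (h : KerTensorSurj δ (IsLocalRing.ResidueField A)) : Module.Flat A (F ⧸ range δ) := by
  refine flat_quotient_of_injective_finite _ fun M _ _ hMf => ?_
  have hM : IsFiniteLength A M := isFiniteLength_iff_isNoetherian_isArtinian.mpr ⟨inferInstance, inferInstance⟩
  clear hMf
  induction hM with
  | of_subsingleton =>
    intro x y _
    exact Subsingleton.elim _ _
  | @of_simple_quotient M _ _ N hs _ ih =>
    refine injective_rTensor_of_exact _ N.subtype N.mkQ Subtype.val_injective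
      (Submodule.mkQ_surjective _) (LinearMap.exact_subtype_mkQ N) ih ?_
    obtain ⟨e⟩ := exists_equiv_residueField (A := A) (M ⧸ N)
    intro x y hxy
    apply (e.lTensor _).injective
    apply h.injective
    show _ = (range δ).subtype.rTensor _ (e.toLinearMap.lTensor _ y)
    rw [show e.lTensor _ x = e.toLinearMap.lTensor _ x from rfl, rTensor_lTensor, hxy, rTensor_lTensor]

/-- Over a Noetherian local ring. -/
theorem flat_coker_of_kerTensorSurj [IsNoetherianRing A] (δ : C →ₗ[A] F) [Module.Finite A C]
    [Module.Finite A F] [Module.Flat A F]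
    (h : KerTensorSurj δ (IsLocalRing.ResidueField A)) : Module.Flat A (F ⧸ range δ) := by
  haveI : Module.FinitePresentation A F := Module.finitePresentation_of_finite A F
  haveI : Module.Free A F := Module.free_of_flat_of_isLocalRing
  haveI : Module.Finite A (range δ) := Module.Finite.range δ
  haveI : Module.Free A (F ⧸ range δ) := Module.free_of_lTensor_residueField_injective
    (range δ).subtype (range δ).mkQ (Submodule.mkQ_surjective _)
    (LinearMap.exact_subtype_mkQ _) ((LinearMap.lTensor_inj_iff_rTensor_inj _ _).mpr h.injective)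
  infer_instance

end

section
variable {A : Type u} [CommRing A] (P : ChainComplex (ModuleCat.{u} A) ℤ) (p : ℤ)

theorem map_surjective_iff {q : ℤ} (hpq : q + 1 = p) {M N : ModuleCat.{u} A} (g : M ⟶ N) :
    Surjective ((CohIII.TFun P p).map g).hom ↔
      ∀ z, (δ P p q).rTensor N z = 0 → ∃ w, (δ P p q).rTensor M w = 0 ∧ g.hom.lTensor _ w = z := by
  constructor
  · intro h z hz
    obtain ⟨y, rfl⟩ := (mem_range_θ P p N hpq z).mpr hz
    obtain ⟨x, rfl⟩ := h y
    exact ⟨θ P p M x, (mem_range_θ P p M hpq _).mp ⟨x, rfl⟩, (θ_naturality P p M g x).symm⟩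
  · intro h y
    obtain ⟨w, hw, hwy⟩ := h _ ((mem_range_θ P p N hpq _).mp ⟨y, rfl⟩)
    obtain ⟨x, rfl⟩ := (mem_range_θ P p M hpq w).mpr hw
    exact ⟨x, θ_injective P p N ((θ_naturality P p M g x).trans hwy)⟩

theorem kerTensorSurj_iff {q : ℤ} (hpq : q + 1 = p) (k : Type u) [CommRing k] [Algebra A k] :
    Surjective ((CohIII.TFun P p).map (ModuleCat.ofHom (Algebra.linearMap A k))).hom →
      KerTensorSurj (δ P p q) k := by
  intro h z hz
  obtain ⟨w, hw, rfl⟩ := (map_surjective_iff P p hpq _).mp h z hz
  obtain ⟨v, rfl⟩ := kerTensorSurj_self (δ P p q) (show w ∈ _ from hw)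
  exact ⟨(Algebra.linearMap A k).lTensor _ v, rTensor_lTensor _ _ _⟩

theorem map_surjective_of_preservesEpi (h : (CohIII.TFun P p).PreservesEpimorphisms)
    {M N : ModuleCat.{u} A} (g : M ⟶ N) (hg : Surjective g.hom) :
    Surjective ((CohIII.TFun P p).map g).hom := by
  haveI : Epi g := (ModuleCat.epi_iff_surjective _).mpr hg
  exact (ModuleCat.epi_iff_surjective _).mp ((CohIII.TFun P p).map_epi g)

theorem preservesEpi_iff_surjective_residueField [IsLocalRing A] [IsNoetherianRing A]
    (hP : ∀ i, Module.Finite A (P.X i) ∧ Module.Flat A (P.X i)) :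
    (CohIII.TFun P p).PreservesEpimorphisms ↔
      Surjective ((CohIII.TFun P p).map
        (ModuleCat.ofHom (Algebra.linearMap A (IsLocalRing.ResidueField A)))).hom := by
  refine ⟨fun h => map_surjective_of_preservesEpi P p h _ IsLocalRing.residue_surjective, fun h => ?_⟩
  have hq := sub_add_cancel p 1
  rw [preservesEpi_iff_flat P p (fun i => (hP i).2) hq]
  haveI := (hP p).1; haveI := (hP (p - 1)).1; haveI := (hP (p - 1)).2
  haveI := flat_coker_of_kerTensorSurj (δ P p (p - 1)) (kerTensorSurj_iff P p hq _ h)
  exact Module.Flat.of_linearEquiv (cokerδ P p hq).symm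

theorem preservesEpi_iff_surjective_residueField_artinian [IsLocalRing A] [IsArtinianRing A]
    (hP : ∀ i, Module.Flat A (P.X i)) :
    (CohIII.TFun P p).PreservesEpimorphisms ↔
      Surjective ((CohIII.TFun P p).map
        (ModuleCat.ofHom (Algebra.linearMap A (IsLocalRing.ResidueField A)))).hom := by
  refine ⟨fun h => map_surjective_of_preservesEpi P p h _ IsLocalRing.residue_surjective, fun h => ?_⟩
  have hq := sub_add_cancel p 1
  rw [preservesEpi_iff_flat P p hP hq]
  haveI := hP (p - 1)
  haveI := flat_coker_of_kerTensorSurj_artinian (δ P p (p - 1)) (kerTensorSurj_iff P p hq _ h)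
  exact Module.Flat.of_linearEquiv (cokerδ P p hq).symm

theorem flat_Cq_of_flat_T (hP : ∀ i, Module.Flat A (P.X i)) (i₀ : ℤ) (hb : ∀ i < i₀, IsZero (P.X i))
    (q₀ : ℤ) (h : ∀ q ≤ q₀, Module.Flat A (Cq P (q - 1)) → Module.Flat A (ker (δ P q (q - 1)))) :
    ∀ q ≤ q₀, Module.Flat A (Cq P q) := by
  have key : ∀ n : ℕ, ∀ q ≤ q₀, q < i₀ + n → Module.Flat A (Cq P q) := by
    intro n
    induction n with
    | zero =>
      intro q _ hq
      haveI := ModuleCat.subsingleton_of_isZero (hb q (by omega))
      infer_instance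
    | succ n ih =>
      intro q hq hqn
      haveI := ih (q - 1) (by omega) (by omega)
      haveI : Module.Flat A (P.X (q - 1) ⧸ range (δ P q (q - 1))) :=
        Module.Flat.of_linearEquiv (cokerδ P q (sub_add_cancel q 1))
      haveI := hP (q - 1)
      haveI := h q hq (ih (q - 1) (by omega) (by omega))
      exact flat_of_flat_ker (δ P q (q - 1))
  intro q hq
  exact key (q - i₀ + 1).toNat q hq (by omega)

theorem dRank_eq_fdim_ker {q : ℤ} (hpq : q + 1 = p) (hF : Module.Flat A (P.X q))
    (hC : Module.Flat A (Cq P q)) (x : PrimeSpectrum A) :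
    CohIII.dRank P p x = fdim (ker (δ P p q)) x := by
  haveI := hF
  haveI : Module.Flat A (P.X q ⧸ range (δ P p q)) := Module.Flat.of_linearEquiv (cokerδ P p hpq)
  rw [dRank_eq_kdim P p hpq]
  let K := x.asIdeal.ResidueField
  let d := δ P p q
  have hK := kerTensor_injective_range d K
  have c1 : ∀ z, (ker d).subtype.rTensor K (TensorProduct.comm A K _ z) =
      TensorProduct.comm A K _ ((ker d).subtype.baseChange K z) := by
    intro z
    induction z using TensorProduct.induction_on with
    | zero => simp
    | tmul c a => simp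
    | add a b ha hb => simp only [map_add, ha, hb]
  have c2 : ∀ z, d.rTensor K (TensorProduct.comm A K _ z) =
      TensorProduct.comm A K _ (d.baseChange K z) := by
    intro z
    induction z using TensorProduct.induction_on with
    | zero => simp
    | tmul c a => simp
    | add a b ha hb => simp only [map_add, ha, hb]
  have hinj : Injective ((ker d).subtype.baseChange K) := by
    rw [baseChange_eq_ltensor, lTensor_inj_iff_rTensor_inj]
    exact hK.1
  have hr : range ((ker d).subtype.baseChange K) = ker (d.baseChange K) := by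
    ext z
    rw [mem_range, mem_ker, ← map_eq_zero_iff _ (TensorProduct.comm A K _).injective, ← c2]
    constructor
    · rintro ⟨w, rfl⟩
      exact hK.2.le ⟨TensorProduct.comm A K _ w, c1 w⟩
    · intro hz
      obtain ⟨w, hw⟩ := hK.2.ge hz
      refine ⟨(TensorProduct.comm A K _).symm w, (TensorProduct.comm A K _).injective ?_⟩
      rw [← c1, LinearEquiv.apply_symm_apply, hw]
  show Module.finrank K (ker (d.baseChange K)) = _
  rw [← hr, finrank_range_of_inj hinj]
  rfl

end
end Groth.Agent.FlatCx
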