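import Mathlib.RingTheory.Spectrum.Prime.FreeLocus
import Mathlib.RingTheory.Spectrum.Prime.Module
import Mathlib.RingTheory.LocalRing.Module
import Mathlib.RingTheory.Flat.Localization
import Mathlib.RingTheory.Flat.Equalizer
import Mathlib.Topology.Semicontinuity.Defs
import Mathlib.LinearAlgebra.Dimension.OrzechProperty
import Mathlib.LinearAlgebra.Basis.VectorSpace
import Mathlib.RingTheory.Nilpotent.Lemmas
import Mathlib.RingTheory.LocalProperties.Reduced
import Mathlib.Topology.LocallyConstant.Basic

/-! Fibre dimensions of modules and of linear maps. -/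

open TensorProduct LinearMap

universe u

namespace Groth.Agent.FlatCx

variable {A : Type u} [CommRing A]

/-- `dim_{κ(x)} κ(x) ⊗ M`. -/
noncomputable def fdim (M : Type u) [AddCommGroup M] [Module A M] (x : PrimeSpectrum A) : ℕ :=
  Module.finrank x.asIdeal.ResidueField (x.asIdeal.ResidueField ⊗[A] M)

/-- The dimension of the kernel of `f ⊗ K` over a field `K`. -/
noncomputable def kdim {C F : Type u} [AddCommGroup C] [Module A C] [AddCommGroup F] [Module A F]
    (f : C →ₗ[A] F) (K : Type u) [Field K] [Algebra A K] : ℕ :=
  Module.finrank K (ker (f.baseChange K))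

variable {C F : Type u} [AddCommGroup C] [Module A C] [AddCommGroup F] [Module A F]

section ext

variable (K L : Type u) [Field K] [Field L] [Algebra A K] [Algebra A L] [Algebra K L]
  [IsScalarTower A K L]

theorem cancel_naturality (f : C →ₗ[A] F) (z : L ⊗[K] (K ⊗[A] C)) :
    f.baseChange L (AlgebraTensorModule.cancelBaseChange A K L L C z) =
      AlgebraTensorModule.cancelBaseChange A K L L F ((f.baseChange K).baseChange L z) := by
  induction z using TensorProduct.induction_on with
  | zero => simp
  | tmul l w =>
    induction w using TensorProduct.induction_on with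
    | zero => simp
    | tmul k c => simp
    | add x y hx hy => simp only [tmul_add, map_add, hx, hy]
  | add x y hx hy => simp only [map_add, hx, hy]

theorem finrank_ker_baseChange (V W : Type u) [AddCommGroup V] [Module K V] [AddCommGroup W]
    [Module K W] (g : V →ₗ[K] W) :
    Module.finrank L (ker (g.baseChange L)) = Module.finrank K (ker g) := by
  have hinj : Function.Injective ((ker g).subtype.baseChange L) := by
    rw [baseChange_eq_ltensor]
    exact Module.Flat.lTensor_preserves_injective_linearMap _ Subtype.val_injective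
  have h2 : range ((ker g).subtype.baseChange L) = ker (g.baseChange L) := by
    ext z
    exact ((Module.Flat.lTensor_exact L g.exact_subtype_ker_map) z).symm
  rw [← h2, LinearMap.finrank_range_of_inj hinj, Module.finrank_baseChange]

theorem kdim_ext (f : C →ₗ[A] F) : kdim f L = kdim f K := by
  let g := f.baseChange K
  let e₁ := AlgebraTensorModule.cancelBaseChange A K L L C
  have h1 : ker (f.baseChange L) = (ker (g.baseChange L)).map e₁.toLinearMap := by
    ext z
    obtain ⟨w, rfl⟩ := e₁.surjective z
    rw [Submodule.map_equiv_eq_comap_symm, Submodule.mem_comap, mem_ker, cancel_naturality,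
      map_eq_zero_iff _ (AlgebraTensorModule.cancelBaseChange A K L L F).injective]
    simp [g, e₁]
  show Module.finrank L (ker (f.baseChange L)) = Module.finrank K (ker g)
  rw [h1, LinearEquiv.finrank_map_eq]
  exact finrank_ker_baseChange K L _ _ g

theorem finrank_ext (M : Type u) [AddCommGroup M] [Module A M] :
    Module.finrank L (L ⊗[A] M) = Module.finrank K (K ⊗[A] M) := by
  rw [← (AlgebraTensorModule.cancelBaseChange A K L L M).finrank_eq, Module.finrank_baseChange]

end ext

theorem kdim_hom (K L : Type u) [Field K] [Field L] [Algebra A K] [Algebra A L] (φ : K →ₐ[A] L)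
    (f : C →ₗ[A] F) : kdim f L = kdim f K := by
  letI := φ.toRingHom.toAlgebra
  haveI : IsScalarTower A K L := .of_algebraMap_eq fun a => (φ.commutes a).symm
  exact kdim_ext K L f

theorem finrank_hom (K L : Type u) [Field K] [Field L] [Algebra A K] [Algebra A L] (φ : K →ₐ[A] L)
    (M : Type u) [AddCommGroup M] [Module A M] :
    Module.finrank L (L ⊗[A] M) = Module.finrank K (K ⊗[A] M) := by
  letI := φ.toRingHom.toAlgebra
  haveI : IsScalarTower A K L := .of_algebraMap_eq fun a => (φ.commutes a).symm
  exact finrank_ext K L M

/-- `dim ker (f ⊗ K) + dim (F ⊗ K) = dim (C ⊗ K) + dim (coker f ⊗ K)`. -/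
theorem kdim_add (f : C →ₗ[A] F) (K : Type u) [Field K] [Algebra A K]
    [Module.Finite K (K ⊗[A] C)] [Module.Finite K (K ⊗[A] F)] :
    kdim f K + Module.finrank K (K ⊗[A] F) =
      Module.finrank K (K ⊗[A] C) + Module.finrank K (K ⊗[A] (F ⧸ range f)) := by
  have hs : Function.Surjective ((range f).mkQ.baseChange K) := by
    rw [baseChange_eq_ltensor]; exact lTensor_surjective K (Submodule.mkQ_surjective _)
  have hk : ker ((range f).mkQ.baseChange K) = range (f.baseChange K) := by
    ext z
    exact (lTensor_exact K f.exact_map_mkQ_range (Submodule.mkQ_surjective _)) z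
  have h1 := LinearMap.finrank_range_add_finrank_ker (f.baseChange K)
  have h2 := LinearMap.finrank_range_add_finrank_ker ((range f).mkQ.baseChange K)
  rw [LinearMap.range_eq_top.mpr hs, finrank_top, hk] at h2
  show Module.finrank K (ker (f.baseChange K)) + _ = _
  omega

variable (M : Type u) [AddCommGroup M] [Module A M]

theorem exists_nhd_fdim_le [Module.Finite A M] (x : PrimeSpectrum A) :
    ∃ U : Set (PrimeSpectrum A), IsOpen U ∧ x ∈ U ∧ ∀ y ∈ U, fdim M y ≤ fdim M x := by
  classical
  let K := x.asIdeal.ResidueField
  let S : Set (K ⊗[A] M) := Set.range fun m : M => (1 : K) ⊗ₜ[A] m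
  have hS : Submodule.span K S = ⊤ := by
    rw [eq_top_iff]
    rintro z -
    induction z using TensorProduct.induction_on with
    | zero => exact zero_mem _
    | tmul k m =>
      rw [show k ⊗ₜ[A] m = k • ((1 : K) ⊗ₜ[A] m) by rw [smul_tmul', smul_eq_mul, mul_one]]
      exact Submodule.smul_mem _ _ (Submodule.subset_span ⟨m, rfl⟩)
    | add a b ha hb => exact add_mem ha hb
  obtain ⟨b, hbS, hsp, hli⟩ := exists_linearIndependent K S
  rw [hS] at hsp
  have hbfin : b.Finite := hli.setFinite
  have hcard : hbfin.toFinset.card = fdim M x := by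
    haveI := hbfin.fintype
    have hb : Module.finrank K (K ⊗[A] M) = Fintype.card b :=
      Module.finrank_eq_card_basis (Module.Basis.mk hli (by rw [Subtype.range_coe]; exact hsp.ge))
    rw [show fdim M x = Module.finrank K (K ⊗[A] M) from rfl, hb, Set.Finite.card_toFinset]
  have hpre : ∀ z ∈ hbfin.toFinset, ∃ m : M, (1 : K) ⊗ₜ[A] m = z :=
    fun z hz => hbS (hbfin.mem_toFinset.mp hz)
  choose v hv using hpre
  let T : Finset M := hbfin.toFinset.attach.image fun z => v z.1 z.2
  have hT : T.card ≤ fdim M x := hcard ▸ (Finset.card_image_le.trans_eq (Finset.card_attach))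
  let N := M ⧸ Submodule.span A (T : Set M)
  let π := (Submodule.span A (T : Set M)).mkQ
  have hfib : ∀ y : PrimeSpectrum A, y ∉ Module.support A N → fdim M y ≤ fdim M x := by
    intro y hy
    let L := y.asIdeal.ResidueField
    rw [Module.mem_support_iff_nontrivial_residueField_tensorProduct, not_nontrivial_iff_subsingleton]
      at hy
    have hexact : Function.Exact ((Submodule.span A (T : Set M)).subtype.baseChange L)
        (π.baseChange L) := fun z => lTensor_exact L (LinearMap.exact_subtype_mkQ _)
          (Submodule.mkQ_surjective _) z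
    have hsurj : Function.Surjective ((Submodule.span A (T : Set M)).subtype.baseChange L) :=
      fun z => (hexact z).mp (hy.elim _ _)
    refine le_trans ?_ hT
    have htop : Submodule.span L (T.image fun m => (1 : L) ⊗ₜ[A] m : Set (L ⊗[A] M)) = ⊤ := by
      rw [eq_top_iff]
      rintro z -
      obtain ⟨w, rfl⟩ := hsurj z
      induction w using TensorProduct.induction_on with
      | zero => rw [map_zero]; exact zero_mem _
      | tmul l m =>
        obtain ⟨m, hm⟩ := m
        rw [baseChange_tmul, Submodule.coe_subtype,
          show l ⊗ₜ[A] m = l • ((1 : L) ⊗ₜ[A] m) by rw [smul_tmul', smul_eq_mul, mul_one]]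
        refine Submodule.smul_mem _ _ ?_
        have : (1 : L) ⊗ₜ[A] m ∈ (Submodule.span A (T : Set M)).map (TensorProduct.mk A L M 1) :=
          Submodule.mem_map_of_mem hm
        rw [Submodule.map_span, ← Finset.coe_image] at this
        exact Submodule.span_le_restrictScalars A L _ this
      | add a b ha hb => rw [map_add]; exact add_mem ha hb
    have h := finrank_span_finset_le_card (R := L) (T.image fun m => (1 : L) ⊗ₜ[A] m)
    rw [Set.finrank, htop, finrank_top] at h
    exact h.trans Finset.card_image_le
  refine ⟨(Module.support A N)ᶜ, Module.isClosed_support.isOpen_compl, ?_, hfib⟩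
  show x ∉ Module.support A N
  rw [Module.mem_support_iff_nontrivial_residueField_tensorProduct, not_nontrivial_iff_subsingleton]
  refine ⟨fun a c => ?_⟩
  suffices h : ∀ a : K ⊗[A] N, a = 0 by rw [h a, h c]
  intro a
  obtain ⟨z, rfl⟩ := lTensor_surjective K (Submodule.mkQ_surjective _) a
  have hz : z ∈ Submodule.span K b := hsp ▸ trivial
  induction hz using Submodule.span_induction with
  | mem z hz =>
    have hmem : v z (hbfin.mem_toFinset.mpr hz) ∈ (T : Set M) :=
      Finset.mem_coe.mpr (Finset.mem_image.mpr
        ⟨⟨z, hbfin.mem_toFinset.mpr hz⟩, Finset.mem_attach _ _, rfl⟩)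
    rw [← hv z (hbfin.mem_toFinset.mpr hz), lTensor_tmul, Submodule.mkQ_apply,
      (Submodule.Quotient.mk_eq_zero _).mpr (Submodule.subset_span hmem), tmul_zero]
  | zero => rw [map_zero]
  | add a b _ _ ha hb => rw [map_add, ha, hb, add_zero]
  | smul k a _ ha =>
    rw [← baseChange_eq_ltensor (A := K)] at ha ⊢
    rw [map_smul, ha, smul_zero]

theorem fdim_upperSemicontinuous [Module.Finite A M] :
    UpperSemicontinuous fun x : PrimeSpectrum A => fdim M x := by
  intro x n hn
  obtain ⟨U, hU, hxU, h⟩ := exists_nhd_fdim_le M x
  exact Filter.mem_of_superset (hU.mem_nhds hxU) fun y hy => lt_of_le_of_lt (h y hy) hn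

theorem fdim_isLocallyConstant [Module.FinitePresentation A M] [Module.Flat A M] :
    IsLocallyConstant fun x : PrimeSpectrum A => fdim M x := by
  convert Module.isLocallyConstant_rankAtStalk (R := A) (M := M) using 1
  funext x
  exact (Module.rankAtStalk_eq x).symm

theorem fdim_comap (B : Type u) [CommRing B] [Algebra A B] (y : PrimeSpectrum B) :
    fdim (B ⊗[A] M) y = fdim M (PrimeSpectrum.comap (algebraMap A B) y) := by
  let x := PrimeSpectrum.comap (algebraMap A B) y
  let φ : x.asIdeal.ResidueField →ₐ[A] y.asIdeal.ResidueField :=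
    Ideal.ResidueField.mapₐ x.asIdeal y.asIdeal (Algebra.ofId A B) rfl
  show Module.finrank y.asIdeal.ResidueField _ = Module.finrank x.asIdeal.ResidueField _
  rw [(AlgebraTensorModule.cancelBaseChange A B y.asIdeal.ResidueField y.asIdeal.ResidueField
    M).finrank_eq]
  exact finrank_hom _ _ φ M

theorem eq_zero_of_forall_minimalPrimes [IsReduced A] {a : A}
    (h : ∀ p ∈ minimalPrimes A, a ∈ p) : a = 0 := by
  have h1 : a ∈ sInf (minimalPrimes A) := Submodule.mem_sInf.mpr h
  rw [minimalPrimes, Ideal.sInf_minimalPrimes] at h1
  change a ∈ nilradical A at h1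
  exact (mem_nilradical.mp h1).eq_zero

/-- Over a reduced local ring, a finite module of constant fibre dimension is free. -/
theorem free_of_fdim_eq [IsLocalRing A] [IsReduced A] [Module.Finite A M]
    (h : ∀ q : PrimeSpectrum A, q.asIdeal ∈ minimalPrimes A →
      fdim M q = fdim M (IsLocalRing.closedPoint A)) : Module.Free A M := by
  classical
  let k := IsLocalRing.ResidueField A
  let w := Module.Free.chooseBasis k (k ⊗[A] M)
  obtain ⟨v, hv⟩ := (TensorProduct.mk_surjective A M k Ideal.Quotient.mk_surjective).comp_left w
  have hspan : Submodule.span A (Set.range v) = ⊤ :=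
    IsLocalRing.span_eq_top_of_tmul_eq_basis _ w fun i => congr_fun hv i
  refine Module.Free.of_basis (Module.Basis.mk (v := v) ?_ hspan.ge)
  rw [Fintype.linearIndependent_iff]
  intro g hg i
  refine eq_zero_of_forall_minimalPrimes fun p hp => ?_
  haveI := hp.1.1
  let q : PrimeSpectrum A := ⟨p, hp.1.1⟩
  let L := p.ResidueField
  let z := fun i => (1 : L) ⊗ₜ[A] v i
  have hz : ⊤ ≤ Submodule.span L (Set.range z) := by
    rintro a -
    induction a using TensorProduct.induction_on with
    | zero => exact zero_mem _
    | tmul l m =>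
      rw [show l ⊗ₜ[A] m = l • ((1 : L) ⊗ₜ[A] m) by rw [smul_tmul', smul_eq_mul, mul_one]]
      refine Submodule.smul_mem _ _ ?_
      have : (1 : L) ⊗ₜ[A] m ∈ (Submodule.span A (Set.range v)).map (TensorProduct.mk A L M 1) :=
        Submodule.mem_map_of_mem (hspan ▸ trivial)
      rw [Submodule.map_span, ← Set.range_comp] at this
      exact Submodule.span_le_restrictScalars A L _ this
    | add a b ha hb => exact add_mem ha hb
  have hcard : Fintype.card (Module.Free.ChooseBasisIndex k (k ⊗[A] M)) =
      Module.finrank L (L ⊗[A] M) := by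
    rw [← Module.finrank_eq_card_basis w]
    refine (Eq.trans ?_ (h q hp).symm)
    let φ : k →ₐ[A] (IsLocalRing.closedPoint A).asIdeal.ResidueField :=
      Ideal.Quotient.liftₐ _ (Algebra.ofId A _) fun a ha =>
        (Ideal.algebraMap_residueField_eq_zero (I := (IsLocalRing.closedPoint A).asIdeal)).mpr ha
    exact (finrank_hom _ _ φ M).symm
  have hli := linearIndependent_of_top_le_span_of_card_eq_finrank hz hcard
  rw [Fintype.linearIndependent_iff] at hli
  have := hli (fun i => algebraMap A L (g i)) (by
    simp only [z, algebraMap_smul, ← TensorProduct.tmul_smul, ← TensorProduct.tmul_sum, hg, tmul_zero]) i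
  exact Ideal.algebraMap_residueField_eq_zero.mp this

theorem flat_of_fdim_isLocallyConstant [IsReduced A] [Module.Finite A M]
    (h : IsLocallyConstant fun x : PrimeSpectrum A => fdim M x) : Module.Flat A M := by
  refine Module.flat_of_localized_maximal M fun P _ => ?_
  let R := Localization.AtPrime P
  haveI : IsReduced R :=
    isReduced_localizationPreserves P.primeCompl (Localization.AtPrime P) inferInstance
  haveI : Module.Free R (R ⊗[A] M) := by
    refine free_of_fdim_eq (R ⊗[A] M) fun q hq => ?_
    rw [fdim_comap, fdim_comap]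
    have hsp : PrimeSpectrum.comap (algebraMap A R) q ⤳
        PrimeSpectrum.comap (algebraMap A R) (IsLocalRing.closedPoint R) := by
      rw [← PrimeSpectrum.le_iff_specializes]
      exact Ideal.comap_mono (IsLocalRing.le_maximalIdeal q.isPrime.ne_top)
    exact hsp.mem_open (h {fdim M (PrimeSpectrum.comap (algebraMap A R) (IsLocalRing.closedPoint R))}) rfl
  haveI : Module.Flat A (R ⊗[A] M) := Module.Flat.trans A R (R ⊗[A] M)
  exact Module.Flat.of_linearEquiv ((LocalizedModule.equivTensorProduct P.primeCompl M).restrictScalars A)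

end Groth.Agent.FlatCx
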