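import Mathlib.RingTheory.Flat.Basic
import Mathlib.RingTheory.LocalRing.Module
import Mathlib.LinearAlgebra.TensorProduct.RightExactness

/-! Kernels of `δ ⊗ M` for a linear map `δ : C →ₗ F` into a flat module. -/

open TensorProduct LinearMap Function

universe u

namespace Groth.Agent.FlatCx

variable {A : Type u} [CommRing A] {C F : Type u} [AddCommGroup C] [Module A C] [AddCommGroup F]
  [Module A F]

/-- `ker (δ ⊗ M)` is functorially surjective in `M`. -/
def KerSurj (δ : C →ₗ[A] F) : Prop :=
  ∀ ⦃M N : Type u⦄ [AddCommGroup M] [Module A M] [AddCommGroup N] [Module A N] (g : M →ₗ[A] N),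
    Surjective g → ∀ y : C ⊗[A] N, δ.rTensor N y = 0 →
      ∃ x : C ⊗[A] M, δ.rTensor M x = 0 ∧ g.lTensor C x = y

/-- `ker (δ ⊗ M)` is functorially injective in `M`. -/
def KerInj (δ : C →ₗ[A] F) : Prop :=
  ∀ ⦃M N : Type u⦄ [AddCommGroup M] [Module A M] [AddCommGroup N] [Module A N] (g : M →ₗ[A] N),
    Injective g → ∀ x : C ⊗[A] M, δ.rTensor M x = 0 → g.lTensor C x = 0 → x = 0

theorem rTensor_lTensor {M N : Type u} [AddCommGroup M] [Module A M] [AddCommGroup N] [Module A N]
    {C F : Type u} [AddCommGroup C] [Module A C] [AddCommGroup F] [Module A F]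
    (δ : C →ₗ[A] F) (g : M →ₗ[A] N) (x : C ⊗[A] M) :
    δ.rTensor N (g.lTensor C x) = g.lTensor F (δ.rTensor M x) := by
  rw [← LinearMap.comp_apply, ← LinearMap.comp_apply, rTensor_comp_lTensor, lTensor_comp_rTensor]

theorem kerInj_iff (δ : C →ₗ[A] F) [Module.Flat A F] : KerInj δ ↔ Module.Flat A C := by
  constructor
  · intro h
    rw [Module.Flat.iff_lTensor_preserves_injective_linearMap]
    intro M N _ _ _ _ g hg
    rw [injective_iff_map_eq_zero]
    intro x hx
    refine h g hg x ?_ hx
    apply Module.Flat.lTensor_preserves_injective_linearMap (M := F) g hg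
    rw [← rTensor_lTensor, hx, map_zero, map_zero]
  · intro _ M N _ _ _ _ g hg x _ hx
    exact Module.Flat.lTensor_preserves_injective_linearMap (M := C) g hg (by rw [hx, map_zero])

theorem kerSurj_iff (δ : C →ₗ[A] F) [Module.Flat A F] :
    KerSurj δ ↔ Module.Flat A (F ⧸ range δ) := by
  have hex : Exact δ (range δ).mkQ := δ.exact_map_mkQ_range
  have hsj : Surjective (range δ).mkQ := Submodule.mkQ_surjective _
  constructor
  · intro h
    rw [Module.Flat.iff_lTensor_preserves_injective_linearMap]
    intro K M _ _ _ _ i hi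
    rw [injective_iff_map_eq_zero]
    intro w₀ hw₀
    obtain ⟨w, rfl⟩ := rTensor_surjective K hsj w₀
    have h1 : (range δ).mkQ.rTensor M (i.lTensor F w) = 0 := by rw [rTensor_lTensor, hw₀]
    obtain ⟨x, hx⟩ := (rTensor_exact M hex hsj _).mp h1
    have hig : Exact i (range i).mkQ := i.exact_map_mkQ_range
    have hy : δ.rTensor (M ⧸ range i) ((range i).mkQ.lTensor C x) = 0 := by
      rw [rTensor_lTensor, hx, ← LinearMap.comp_apply, ← lTensor_comp, hig.linearMap_comp_eq_zero,
        lTensor_zero, zero_apply]
    obtain ⟨x', hx', hxy⟩ := h _ (Submodule.mkQ_surjective _) _ hy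
    obtain ⟨v, hv⟩ := (lTensor_exact C hig (Submodule.mkQ_surjective _) (x - x')).mp
      (by rw [map_sub, hxy, sub_self])
    have hw : w = δ.rTensor K v := by
      apply Module.Flat.lTensor_preserves_injective_linearMap (M := F) i hi
      rw [← rTensor_lTensor, hv, map_sub, hx', sub_zero, hx]
    rw [hw, ← LinearMap.comp_apply, ← rTensor_comp, hex.linearMap_comp_eq_zero, rTensor_zero, zero_apply]
  · intro _ M N _ _ _ _ g hg y hy
    obtain ⟨x, rfl⟩ := lTensor_surjective C hg y
    have hkg : Exact (ker g).subtype g := g.exact_subtype_ker_map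
    obtain ⟨w, hw⟩ := (lTensor_exact F hkg hg (δ.rTensor M x)).mp (by rw [← rTensor_lTensor, hy])
    have h0 : (range δ).mkQ.rTensor (ker g) w = 0 := by
      apply Module.Flat.lTensor_preserves_injective_linearMap (M := F ⧸ range δ) (ker g).subtype
        Subtype.val_injective
      rw [← rTensor_lTensor, hw, ← LinearMap.comp_apply, ← rTensor_comp, hex.linearMap_comp_eq_zero,
        rTensor_zero, zero_apply, map_zero]
    obtain ⟨v, hv⟩ := (rTensor_exact (ker g) hex hsj _).mp h0
    refine ⟨x - (ker g).subtype.lTensor C v, ?_, ?_⟩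
    · rw [map_sub, rTensor_lTensor, hv, hw, sub_self]
    · rw [map_sub, ← LinearMap.comp_apply (g.lTensor C), ← lTensor_comp, hkg.linearMap_comp_eq_zero,
        lTensor_zero, zero_apply, sub_zero]

/-- A submodule with flat quotient is universally injective. -/
theorem rTensor_injective_of_flat_quotient (K : Submodule A F) [Module.Flat A (F ⧸ K)]
    (M : Type u) [AddCommGroup M] [Module A M] : Injective (K.subtype.rTensor M) := by
  classical
  let π : (M →₀ A) →ₗ[A] M := Finsupp.linearCombination A id
  have hπ : Surjective π := fun m => ⟨Finsupp.single m 1, by simp [π]⟩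
  rw [← lTensor_inj_iff_rTensor_inj]
  refine lTensor_injective_of_exact_of_exact_of_rTensor_injective (R := A) (M₁ := ↥(ker π))
    (M₂ := M →₀ A) (M₃ := M) (N₁ := ↥K) (N₂ := F) (N₃ := F ⧸ K) (f₁ := (ker π).subtype) (f₂ := π)
    (g₁ := K.subtype) (g₂ := K.mkQ) π.exact_subtype_ker_map hπ
    (LinearMap.exact_subtype_mkQ K) (Submodule.mkQ_surjective _) ?_ ?_
  · exact Module.Flat.rTensor_preserves_injective_linearMap _ Subtype.val_injective
  · exact Module.Flat.lTensor_preserves_injective_linearMap _ Subtype.val_injective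

/-- For flat cokernel the kernel commutes with tensoring. -/
theorem kerTensor_injective_range (δ : C →ₗ[A] F) [Module.Flat A F]
    [Module.Flat A (F ⧸ range δ)] (M : Type u) [AddCommGroup M] [Module A M] :
    Injective ((ker δ).subtype.rTensor M) ∧
      range ((ker δ).subtype.rTensor M) = ker (δ.rTensor M) := by
  haveI : Module.Flat A (range δ) := by
    rw [Module.Flat.iff_lTensor_preserves_injective_linearMap]
    intro N N' _ _ _ _ g hg x y hxy
    apply rTensor_injective_of_flat_quotient (range δ) N
    apply Module.Flat.lTensor_preserves_injective_linearMap (M := F) g hg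
    rw [← rTensor_lTensor, ← rTensor_lTensor, hxy]
  have hd : δ = (range δ).subtype ∘ₗ δ.rangeRestrict := rfl
  let e := δ.quotKerEquivRange
  haveI : Module.Flat A (C ⧸ ker δ) := Module.Flat.of_linearEquiv e
  refine ⟨rTensor_injective_of_flat_quotient _ M, ?_⟩
  have hex : Exact (ker δ).subtype δ.rangeRestrict := by
    rw [LinearMap.exact_iff, LinearMap.ker_rangeRestrict, Submodule.range_subtype]
  ext x
  rw [mem_ker, show δ.rTensor M = (range δ).subtype.rTensor M ∘ₗ δ.rangeRestrict.rTensor M from
    rTensor_comp M (range δ).subtype δ.rangeRestrict, LinearMap.comp_apply,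
    map_eq_zero_iff _ (rTensor_injective_of_flat_quotient (range δ) M)]
  exact ((rTensor_exact M hex δ.surjective_rangeRestrict) x).symm

end Groth.Agent.FlatCx
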