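import Groth.Prelude.Def_ega3
import Groth.Agent.FlatCx.Two

/-! The functor `M ↦ H_p(P ⊗ M)` as `ker (δ_p ⊗ M)`, `δ_p : P_p / im d → P_{p-1}`. -/

open CategoryTheory CategoryTheory.Limits TensorProduct LinearMap

universe u

namespace Groth.Agent.FlatCx

variable {A : Type u} [CommRing A]

/-- `coker (d : Q_{p+1} → Q_p)`. -/
abbrev Cq (Q : ChainComplex (ModuleCat.{u} A) ℤ) (p : ℤ) : Type u :=
  (Q.X p) ⧸ range (Q.d (p + 1) p).hom

/-- The map `coker d_{p+1} → Q_q`. -/
noncomputable def δ (Q : ChainComplex (ModuleCat.{u} A) ℤ) (p q : ℤ) : Cq Q p →ₗ[A] Q.X q :=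
  (range (Q.d (p + 1) p).hom).liftQ (Q.d p q).hom <| range_le_ker_iff.mpr <| by
    rw [← ModuleCat.hom_comp, Q.d_comp_d]; rfl

theorem δ_comp_mkQ (Q : ChainComplex (ModuleCat.{u} A) ℤ) (p q : ℤ) :
    δ Q p q ∘ₗ (range (Q.d (p + 1) p).hom).mkQ = (Q.d p q).hom := by
  ext; rfl

theorem range_δ (Q : ChainComplex (ModuleCat.{u} A) ℤ) (p q : ℤ) :
    range (δ Q p q) = range (Q.d p q).hom := Submodule.range_liftQ _ _ _

section homology

variable (Q : ChainComplex (ModuleCat.{u} A) ℤ) (p : ℤ)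

/-- The opcycles as a concrete quotient. -/
noncomputable def opIso : Q.opcycles p ≅ ModuleCat.of A (Cq Q p) :=
  IsColimit.coconePointUniqueUpToIso
    (Q.opcyclesIsCokernel (p + 1) p (ChainComplex.prev ℤ p))
    (ModuleCat.cokernelIsColimit (Q.d (p + 1) p))

theorem p_opIso : Q.pOpcycles p ≫ (opIso Q p).hom =
    ModuleCat.ofHom (range (Q.d (p + 1) p).hom).mkQ :=
  IsColimit.comp_coconePointUniqueUpToIso_hom
    (Q.opcyclesIsCokernel (p + 1) p (ChainComplex.prev ℤ p))
    (ModuleCat.cokernelIsColimit (Q.d (p + 1) p)) WalkingParallelPair.one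

theorem opIso_δ (q : ℤ) :
    (opIso Q p).hom ≫ ModuleCat.ofHom (δ Q p q) = Q.fromOpcycles p q := by
  rw [← cancel_epi (Q.pOpcycles p), ← Category.assoc, p_opIso, Q.p_fromOpcycles]
  ext; rfl

/-- The embedding `H_p(Q) → coker d_{p+1}`. -/
noncomputable def hι : Q.homology p →ₗ[A] Cq Q p := (Q.homologyι p ≫ (opIso Q p).hom).hom

theorem hι_injective : Function.Injective (hι Q p) :=
  (ModuleCat.mono_iff_injective _).mp
    (inferInstance : Mono (Q.homologyι p ≫ (opIso Q p).hom))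

theorem range_hι {q : ℤ} (hpq : q + 1 = p) : range (hι Q p) = ker (δ Q p q) := by
  have hnext : (ComplexShape.down ℤ).next p = q := (ComplexShape.down ℤ).next_eq' hpq
  have hex : (ShortComplex.mk _ _ (Q.homologyι_comp_fromOpcycles p q)).Exact :=
    ShortComplex.exact_of_f_is_kernel _ (Q.homologyIsKernel p q hnext)
  rw [ShortComplex.moduleCat_exact_iff_range_eq_ker] at hex
  have h : Q.fromOpcycles p q = (opIso Q p).hom ≫ ModuleCat.ofHom (δ Q p q) := (opIso_δ Q p q).symm
  ext x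
  simp only [mem_range, mem_ker, hι, ModuleCat.hom_comp, LinearMap.comp_apply]
  constructor
  · rintro ⟨y, rfl⟩
    exact (LinearMap.congr_fun (congrArg ModuleCat.Hom.hom
      (show Q.homologyι p ≫ (opIso Q p).hom ≫ ModuleCat.ofHom (δ Q p q) = 0 by
        rw [← h, Q.homologyι_comp_fromOpcycles])) y : _)
  · intro hx
    have hx' : (Q.fromOpcycles p q).hom ((opIso Q p).inv.hom x) = 0 := by
      rw [h, ModuleCat.hom_comp, LinearMap.comp_apply, (opIso Q p).inv_hom_id_apply]
      exact hx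
    obtain ⟨y, hy⟩ := hex.ge hx'
    refine ⟨y, ?_⟩
    rw [show (Q.homologyι p).hom y = (opIso Q p).inv.hom x from hy]
    exact (opIso Q p).inv_hom_id_apply x

theorem opIso_naturality {Q' : ChainComplex (ModuleCat.{u} A) ℤ} (φ : Q ⟶ Q')
    (c : Cq Q p →ₗ[A] Cq Q' p)
    (hc : c ∘ₗ (range (Q.d (p + 1) p).hom).mkQ =
      (range (Q'.d (p + 1) p).hom).mkQ ∘ₗ (φ.f p).hom) :
    HomologicalComplex.opcyclesMap φ p ≫ (opIso Q' p).hom =
      (opIso Q p).hom ≫ ModuleCat.ofHom c := by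
  rw [← cancel_epi (Q.pOpcycles p), HomologicalComplex.p_opcyclesMap_assoc, p_opIso,
    ← Category.assoc, p_opIso]
  ext : 1
  exact hc.symm

theorem hι_naturality {Q' : ChainComplex (ModuleCat.{u} A) ℤ} (φ : Q ⟶ Q')
    (c : Cq Q p →ₗ[A] Cq Q' p)
    (hc : c ∘ₗ (range (Q.d (p + 1) p).hom).mkQ =
      (range (Q'.d (p + 1) p).hom).mkQ ∘ₗ (φ.f p).hom) (x : Q.homology p) :
    hι Q' p ((HomologicalComplex.homologyMap φ p).hom x) = c (hι Q p x) := by
  have h : HomologicalComplex.homologyMap φ p ≫ Q'.homologyι p ≫ (opIso Q' p).hom =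
      (Q.homologyι p ≫ (opIso Q p).hom) ≫ ModuleCat.ofHom c := by
    rw [← Category.assoc, HomologicalComplex.homologyι_naturality, Category.assoc,
      opIso_naturality Q p φ c hc, Category.assoc]
  exact LinearMap.congr_fun (congrArg ModuleCat.Hom.hom h) x

end homology

section tensor

variable (P : ChainComplex (ModuleCat.{u} A) ℤ) (p : ℤ) (M : ModuleCat.{u} A)

/-- `coker (d ⊗ M) = coker d ⊗ M`. -/
noncomputable def cqTensor : Cq (CohIII.tensorObj P M) p ≃ₗ[A] Cq P p ⊗[A] M :=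
  rTensor.equiv (M : Type u) ((P.d (p + 1) p).hom.exact_map_mkQ_range)
    (Submodule.mkQ_surjective _)

theorem cqTensor_mk (z : (P.X p : Type u) ⊗[A] (M : Type u)) :
    cqTensor P p M (Submodule.Quotient.mk z) =
      (range (P.d (p + 1) p).hom).mkQ.rTensor M z := rfl

theorem cqTensor_δ (q : ℤ) (c : Cq (CohIII.tensorObj P M) p) :
    (δ P p q).rTensor M (cqTensor P p M c) = δ (CohIII.tensorObj P M) p q c := by
  induction c using Submodule.Quotient.induction_on with
  | H z =>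
    exact LinearMap.congr_fun (show (δ P p q).rTensor M ∘ₗ
      (range (P.d (p + 1) p).hom).mkQ.rTensor M = (P.d p q).hom.rTensor M by
        rw [← rTensor_comp, δ_comp_mkQ]) z

/-- The embedding `T_p(M) → coker d_{p+1} ⊗ M`. -/
noncomputable def θ : (CohIII.TFun P p).obj M →ₗ[A] Cq P p ⊗[A] M :=
  (cqTensor P p M).toLinearMap ∘ₗ hι (CohIII.tensorObj P M) p

theorem θ_injective : Function.Injective (θ P p M) :=
  (cqTensor P p M).injective.comp (hι_injective _ _)

theorem mem_range_θ {q : ℤ} (hpq : q + 1 = p) (z : Cq P p ⊗[A] M) :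
    z ∈ range (θ P p M) ↔ (δ P p q).rTensor M z = 0 := by
  obtain ⟨c, rfl⟩ := (cqTensor P p M).surjective z
  constructor
  · rintro ⟨x, hx⟩
    rw [← (cqTensor P p M).injective hx]
    exact (cqTensor_δ P p M q _).trans ((range_hι (CohIII.tensorObj P M) p hpq).le ⟨x, rfl⟩)
  · intro h
    obtain ⟨x, hx⟩ := (range_hι (CohIII.tensorObj P M) p hpq).ge ((cqTensor_δ P p M q c).symm.trans h)
    exact ⟨x, congrArg (cqTensor P p M) hx⟩

theorem θ_naturality {N : ModuleCat.{u} A} (g : M ⟶ N) (x : (CohIII.TFun P p).obj M) :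
    θ P p N (((CohIII.TFun P p).map g).hom x) = g.hom.lTensor (Cq P p) (θ P p M x) := by
  let c : Cq (CohIII.tensorObj P M) p →ₗ[A] Cq (CohIII.tensorObj P N) p :=
    (cqTensor P p N).symm.toLinearMap ∘ₗ g.hom.lTensor (Cq P p) ∘ₗ (cqTensor P p M).toLinearMap
  have hc : c ∘ₗ (range ((CohIII.tensorObj P M).d (p + 1) p).hom).mkQ =
      (range ((CohIII.tensorObj P N).d (p + 1) p).hom).mkQ ∘ₗ ((CohIII.tensorMap P g).f p).hom := by
    refine LinearMap.ext fun (z : (P.X p : Type u) ⊗[A] (M : Type u)) => ?_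
    apply (cqTensor P p N).injective
    show cqTensor P p N ((cqTensor P p N).symm (g.hom.lTensor _ (cqTensor P p M
      (Submodule.Quotient.mk z)))) = cqTensor P p N (Submodule.Quotient.mk (g.hom.lTensor _ z))
    rw [LinearEquiv.apply_symm_apply, cqTensor_mk, cqTensor_mk, rTensor_lTensor]
  have h := hι_naturality _ p (CohIII.tensorMap P g) c hc x
  show cqTensor P p N (hι _ p (((CohIII.TFun P p).map g).hom x)) = _
  erw [h]
  exact LinearEquiv.apply_symm_apply _ _

theorem preservesMono_iff_kerInj {q : ℤ} (hpq : q + 1 = p) :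
    (CohIII.TFun P p).PreservesMonomorphisms ↔ KerInj (δ P p q) := by
  constructor
  · intro h M N _ _ _ _ g hg x hx hgx
    haveI : Mono (ModuleCat.ofHom g) := (ModuleCat.mono_iff_injective _).mpr hg
    have hm := (ModuleCat.mono_iff_injective _).mp
      ((CohIII.TFun P p).map_mono (ModuleCat.ofHom g))
    obtain ⟨y, rfl⟩ := (mem_range_θ P p (ModuleCat.of A M) hpq x).mpr hx
    have : y = 0 := hm (θ_injective P p (ModuleCat.of A N) (by
      rw [θ_naturality]; erw [map_zero, map_zero]; exact hgx))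
    rw [this, map_zero]
  · intro h
    constructor
    intro M N g hg
    rw [ModuleCat.mono_iff_injective] at hg ⊢
    rw [injective_iff_map_eq_zero]
    intro y hy
    apply θ_injective P p M
    rw [map_zero]
    refine h g.hom hg _ ((mem_range_θ P p M hpq _).mp ⟨y, rfl⟩) ?_
    rw [← θ_naturality, hy, map_zero]

theorem preservesEpi_iff_kerSurj {q : ℤ} (hpq : q + 1 = p) :
    (CohIII.TFun P p).PreservesEpimorphisms ↔ KerSurj (δ P p q) := by
  constructor
  · intro h M N _ _ _ _ g hg y hy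
    haveI : Epi (ModuleCat.ofHom g) := (ModuleCat.epi_iff_surjective _).mpr hg
    have hm := (ModuleCat.epi_iff_surjective _).mp
      ((CohIII.TFun P p).map_epi (ModuleCat.ofHom g))
    obtain ⟨y', rfl⟩ := (mem_range_θ P p (ModuleCat.of A N) hpq y).mpr hy
    obtain ⟨x, rfl⟩ := hm y'
    exact ⟨θ P p (ModuleCat.of A M) x, (mem_range_θ P p (ModuleCat.of A M) hpq _).mp ⟨x, rfl⟩,
      (θ_naturality P p (ModuleCat.of A M) (ModuleCat.ofHom g) x).symm⟩
  · intro h
    constructor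
    intro M N g hg
    rw [ModuleCat.epi_iff_surjective] at hg ⊢
    intro y
    obtain ⟨x, hx, hxy⟩ := h g.hom hg _ ((mem_range_θ P p N hpq _).mp ⟨y, rfl⟩)
    obtain ⟨x', rfl⟩ := (mem_range_θ P p M hpq x).mpr hx
    exact ⟨x', θ_injective P p N ((θ_naturality P p M g x').trans hxy)⟩

/-- `T_p` preserves monomorphisms iff `coker d_{p+1}` is flat. -/
theorem preservesMono_iff_flat (hP : ∀ i, Module.Flat A (P.X i)) :
    (CohIII.TFun P p).PreservesMonomorphisms ↔ Module.Flat A (Cq P p) := by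
  haveI := hP (p - 1)
  rw [preservesMono_iff_kerInj P p (sub_add_cancel p 1), kerInj_iff]

/-- `T_p` preserves epimorphisms iff `coker d_p` is flat. -/
theorem preservesEpi_iff_flat (hP : ∀ i, Module.Flat A (P.X i)) {q : ℤ} (hpq : q + 1 = p) :
    (CohIII.TFun P p).PreservesEpimorphisms ↔ Module.Flat A (Cq P q) := by
  haveI := hP q
  rw [preservesEpi_iff_kerSurj P p hpq, kerSurj_iff, range_δ]
  subst hpq
  rfl

/-- `H_p(P) = ker δ_p`. -/
noncomputable def homologyEquivKer {q : ℤ} (hpq : q + 1 = p) : P.homology p ≃ₗ[A] ker (δ P p q) :=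
  LinearEquiv.ofInjective (hι P p) (hι_injective P p) ≪≫ₗ LinearEquiv.ofEq _ _ (range_hι P p hpq)

/-- `T_p(M) = ker (δ_p ⊗ M)`. -/
noncomputable def tEquivKer {q : ℤ} (hpq : q + 1 = p) :
    (CohIII.TFun P p).obj M ≃ₗ[A] ker ((δ P p q).rTensor M) :=
  LinearEquiv.ofInjective (θ P p M) (θ_injective P p M) ≪≫ₗ
    LinearEquiv.ofEq _ _ (by ext z; rw [mem_range_θ P p M hpq, mem_ker])

theorem tEquivKer_apply {q : ℤ} (hpq : q + 1 = p) (x : (CohIII.TFun P p).obj M) :
    (tEquivKer P p M hpq x : Cq P p ⊗[A] M) = θ P p M x := rfl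

end tensor

end Groth.Agent.FlatCx
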