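import Groth.Agent.FlatCx.Open
import Groth.Agent.FlatCx.Ext
import Mathlib.RingTheory.Flat.Equalizer
import Mathlib.RingTheory.Noetherian.Basic
import Mathlib.RingTheory.Ideal.MinimalPrime.Noetherian
import Mathlib.Data.Int.Interval
import Mathlib.RingTheory.Spectrum.Prime.Noetherian
import Mathlib.RingTheory.Spectrum.Prime.Topology

/-! Generic exactness. -/

open CategoryTheory CategoryTheory.Limits MonoidalCategory TensorProduct LinearMap Function

universe u

namespace Groth.Agent.FlatCx

variable {A : Type u} [CommRing A] (P : ChainComplex (ModuleCat.{u} A) ℤ)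

theorem isZero_bcCx_X {B : Type u} [CommRing B] [Algebra A B] {i : ℤ} (h : IsZero (P.X i)) :
    IsZero ((CohIII.bcCx (algebraMap A B) P).X i) :=
  Functor.map_isZero (ModuleCat.extendScalars (algebraMap A B)) h

theorem exists_away_flat_ker [IsDomain A] (s : Finset ℤ) (K : ℤ → Type u) [∀ i, AddCommGroup (K i)]
    [∀ i, Module A (K i)] (hK : ∀ i ∈ s, Module.FinitePresentation A (K i)) :
    ∃ f : A, f ≠ 0 ∧ ∀ i ∈ s, Module.Flat (Localization.Away f) (Localization.Away f ⊗[A] K i) := by
  let U : Set (PrimeSpectrum A) := ⋂ i ∈ s, Module.freeLocus A (K i)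
  have hU : IsOpen U := isOpen_biInter_finset fun i hi => by haveI := hK i hi; exact Module.isOpen_freeLocus
  have hb : (⊥ : PrimeSpectrum A) ∈ U := Set.mem_iInter₂.mpr fun i _ => bot_mem_freeLocus (K i)
  obtain ⟨_, ⟨f, rfl⟩, hf, hfU⟩ :=
    PrimeSpectrum.isTopologicalBasis_basic_opens.exists_subset_of_mem_open hb hU
  refine ⟨f, fun h0 => hf (by simp [h0]), fun i hi => ?_⟩
  haveI := hK i hi
  haveI := Module.basicOpen_subset_freeLocus_iff.mp (hfU.trans (Set.biInter_subset_of_mem hi))
  exact Module.Flat.of_linearEquiv (LocalizedModule.equivTensorProduct (Submonoid.powers f) (K i)).symm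

theorem exact_bc_upTo [IsDomain A] (hP : ∀ i, Module.Flat A (P.X i)) (i₀ : ℤ)
    (hb : ∀ i < i₀, IsZero (P.X i))
    (hfp : ∀ n : ℤ, Module.FinitePresentation A (CohIII.T P n (ModuleCat.of A A))) (N : ℤ) :
    ∃ f : A, f ≠ 0 ∧ ∀ p ≤ N,
      (CohIII.TFun (CohIII.bcCx (algebraMap A (Localization.Away f)) P) p).PreservesMonomorphisms ∧
        (CohIII.TFun (CohIII.bcCx (algebraMap A (Localization.Away f)) P) p).PreservesEpimorphisms := by
  have hfpK : ∀ q, Module.FinitePresentation A (ker (δ P q (q - 1))) := fun q => by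
    haveI : Module.FinitePresentation A ((CohIII.TFun P q).obj (ModuleCat.of A A)) := hfp q
    exact Module.FinitePresentation.of_equiv (tAEquiv P q (sub_add_cancel q 1))
  obtain ⟨f, hf, hfl⟩ := exists_away_flat_ker (Finset.Icc i₀ N) (fun q => ker (δ P q (q - 1)))
    fun q _ => hfpK q
  refine ⟨f, hf, ?_⟩
  let B := Localization.Away f
  haveI : Module.Flat A B := IsLocalization.flat _ (Submonoid.powers f)
  let Q := CohIII.bcCx (algebraMap A B) P
  have hQ := flat_bcCx B P hP
  have hbQ : ∀ i < i₀, IsZero (Q.X i) := fun i hi => isZero_bcCx_X P (hb i hi)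
  have key := flat_Cq_of_flat_T Q hQ i₀ hbQ N fun q hq _ => by
    have e := sub_add_cancel q 1
    by_cases hq₀ : i₀ ≤ q
    · haveI := hfl q (Finset.mem_Icc.mpr ⟨hq₀, hq⟩)
      let e1 : B ⊗[A] ker (δ P q (q - 1)) ≃ₗ[B] ker ((δ P q (q - 1)).baseChange B) :=
        LinearMap.tensorKerEquiv B B (δ P q (q - 1))
      exact Module.Flat.of_linearEquiv
        (((homologyEquivKer Q q e).symm ≪≫ₗ bcHomologyEquivKer B P q e) ≪≫ₗ e1.symm)
    · haveI := ModuleCat.subsingleton_of_isZero (hbQ q (not_le.mp hq₀))
      haveI : Subsingleton (Cq Q q) := inferInstance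
      infer_instance
  intro p hp
  rw [preservesMono_iff_flat Q p hQ, preservesEpi_iff_flat Q p hQ (sub_add_cancel p 1)]
  exact ⟨key p hp, key _ (by omega)⟩

/-- All `T_n(M)` are finite for finite `M` when the `T_n(A)` are. -/
theorem finite_ker_rTensor [IsNoetherianRing A] (hP : ∀ i, Module.Flat A (P.X i)) (i₀ : ℤ)
    (hb : ∀ i < i₀, IsZero (P.X i))
    (hfg : ∀ n : ℤ, Module.Finite A (CohIII.T P n (ModuleCat.of A A))) :
    ∀ (n : ℤ) (M : Type u) [AddCommGroup M] [Module A M] [Module.Finite A M],
      Module.Finite A (ker ((δ P n (n - 1)).rTensor M)) := by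
  have key : ∀ m : ℕ, ∀ n : ℤ, n < i₀ + m → ∀ (M : Type u) [AddCommGroup M] [Module A M]
      [Module.Finite A M], Module.Finite A (ker ((δ P n (n - 1)).rTensor M)) := by
    intro m
    induction m with
    | zero =>
      intro n hn M _ _ _
      haveI := ModuleCat.subsingleton_of_isZero (hb n (by omega))
      infer_instance
    | succ m ih =>
      intro n hn M _ _ _
      classical
      obtain ⟨r, v, hv⟩ := Module.Finite.exists_fin (R := A) (M := M)
      let L := Fin r → A
      let g : L →ₗ[A] M := Fintype.linearCombination A v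
      have hg : Surjective g := by
        rw [← LinearMap.range_eq_top, Fintype.range_linearCombination, hv]
      let R := ker g
      let d := δ P n (n - 1)
      have e := sub_add_cancel n 1
      have e' := sub_add_cancel (n - 1) 1
      let d' := δ P (n - 1) (n - 1 - 1)
      haveI := hP (n - 1)
      haveI := hP (n - 1 - 1)
      have hι : Injective (R.subtype.lTensor (P.X (n - 1))) :=
        Module.Flat.lTensor_preserves_injective_linearMap _ Subtype.val_injective
      let eι := LinearEquiv.ofInjective _ hι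
      let S : Submodule A (Cq P n ⊗[A] L) := (range (R.subtype.lTensor (P.X (n - 1)))).comap (d.rTensor L)
      let π : (P.X (n - 1) : Type u) →ₗ[A] Cq P (n - 1) :=
        (cokerδ P n e).toLinearMap ∘ₗ (range d).mkQ
      let Γ : S →ₗ[A] Cq P (n - 1) ⊗[A] R :=
        π.rTensor R ∘ₗ eι.symm.toLinearMap ∘ₗ (d.rTensor L).restrict (fun w (hw : w ∈ S) => hw)
      have hΓ : ∀ w : S, ∃ y, d.rTensor L w.1 = R.subtype.lTensor _ y ∧ Γ w = π.rTensor R y := fun w =>
        ⟨eι.symm ⟨d.rTensor L w.1, w.2⟩, (congrArg Subtype.val (eι.apply_symm_apply ⟨_, w.2⟩)).symm, rfl⟩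
      have hπd : d' ∘ₗ π ∘ₗ d = 0 := LinearMap.ext fun c => by
        show d' (cokerδ P n e (Submodule.Quotient.mk (d c))) = 0
        rw [(Submodule.Quotient.mk_eq_zero _).mpr (mem_range_self d c), map_zero, map_zero]
      have hΓle : range Γ ≤ ker (d'.rTensor R) := by
        rintro _ ⟨w, rfl⟩
        obtain ⟨y, hy, hy'⟩ := hΓ w
        rw [mem_ker, hy']
        apply Module.Flat.lTensor_preserves_injective_linearMap (M := P.X (n - 1 - 1)) R.subtype
          Subtype.val_injective
        rw [map_zero, ← rTensor_lTensor, ← rTensor_lTensor, ← hy, ← rTensor_comp_apply,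
          ← rTensor_comp_apply, LinearMap.comp_assoc, hπd, rTensor_zero, LinearMap.zero_apply]
      haveI : IsNoetherian A R := inferInstance
      haveI : Module.Finite A R := Module.Finite.iff_fg.mpr (IsNoetherian.noetherian _)
      haveI : Module.Finite A (ker (d'.rTensor R)) := ih (n - 1) (by omega) R
      haveI : IsNoetherian A (ker (d'.rTensor R)) := isNoetherian_of_fg_of_noetherian _ (Module.Finite.iff_fg.mp inferInstance)
      haveI : Module.Finite A (range Γ) :=
        Module.Finite.of_injective (Submodule.inclusion hΓle) (Submodule.inclusion_injective _)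
      haveI : Module.Finite A (ker (d.rTensor L)) := by
        haveI : Module.Finite A (ker d) := by
          haveI : Module.Finite A ((CohIII.TFun P n).obj (ModuleCat.of A A)) := hfg n
          exact Module.Finite.equiv (tAEquiv P n e)
        exact Module.Finite.equiv ((TensorProduct.comm A L (ker d)) ≪≫ₗ
          LinearEquiv.ofBijective ((ker d).subtype.rTensor L |>.codRestrict (ker (d.rTensor L)) (fun x => by
            rw [mem_ker, ← rTensor_comp_apply, LinearMap.comp_ker_subtype, rTensor_zero,
              LinearMap.zero_apply]))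
          ⟨fun x y h => Module.Flat.rTensor_preserves_injective_linearMap _ Subtype.val_injective
              (congrArg Subtype.val h), fun z => by
            obtain ⟨x, hx⟩ := ((Module.Flat.rTensor_exact L d.exact_subtype_ker_map) z.1).mp z.2
            exact ⟨x, Subtype.ext hx⟩⟩)
      obtain ⟨k, w, hw⟩ := Module.Finite.exists_fin (R := A) (M := range Γ)
      choose s hs using fun i => (w i).2
      let ψ : (ker (d.rTensor L) × (Fin k → A)) →ₗ[A] Cq P n ⊗[A] M :=
        g.lTensor _ ∘ₗ ((ker (d.rTensor L)).subtype.coprod (S.subtype ∘ₗ Fintype.linearCombination A s))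
      have hle : ker (d.rTensor M) ≤ range ψ := by
        intro z hz
        obtain ⟨w₀, rfl⟩ := lTensor_surjective (Cq P n) hg z
        have hexR := lTensor_exact (P.X (n - 1)) g.exact_subtype_ker_map hg
        have hw₀ : w₀ ∈ S := (hexR _).mp (by rw [← rTensor_lTensor]; exact hz)
        have hm : (⟨Γ ⟨w₀, hw₀⟩, ⟨⟨w₀, hw₀⟩, rfl⟩⟩ : range Γ) ∈ Submodule.span A (Set.range w) := hw ▸ trivial
        obtain ⟨a, ha⟩ := (Submodule.mem_span_range_iff_exists_fun A).mp hm
        let w₁ : S := ⟨w₀, hw₀⟩ - Fintype.linearCombination A s a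
        have h1 : Γ w₁ = 0 := by
          have h2 : Γ (Fintype.linearCombination A s a) = Γ ⟨w₀, hw₀⟩ := by
            rw [Fintype.linearCombination_apply, map_sum]
            refine Eq.trans ?_ (congrArg Subtype.val ha)
            simp [hs]
          have h3 : w₁ + Fintype.linearCombination A s a = ⟨w₀, hw₀⟩ := Subtype.ext (sub_add_cancel _ _)
          have h4 := Γ.map_add w₁ (Fintype.linearCombination A s a)
          rw [h3, h2] at h4
          exact add_eq_right.mp h4.symm
        obtain ⟨y, hy, hy'⟩ := hΓ w₁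
        have hexd : Exact (d.rTensor R) (π.rTensor R) := by
          refine rTensor_exact R ?_ ((cokerδ P n e).surjective.comp (Submodule.mkQ_surjective _))
          intro x
          show cokerδ P n e (Submodule.Quotient.mk x) = 0 ↔ _
          rw [LinearEquiv.map_eq_zero_iff, Submodule.Quotient.mk_eq_zero]
          rfl
        obtain ⟨x, rfl⟩ := (hexd y).mp (hy'.symm.trans h1)
        have hx0 : g.lTensor (Cq P n) (R.subtype.lTensor _ x) = 0 := by
          rw [← lTensor_comp_apply, g.exact_subtype_ker_map.linearMap_comp_eq_zero, lTensor_zero,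
            LinearMap.zero_apply]
        refine ⟨(⟨w₁.1 - R.subtype.lTensor _ x, by
          rw [mem_ker, map_sub, hy, ← rTensor_lTensor, sub_self]⟩, a), ?_⟩
        show g.lTensor _ (w₁.1 - R.subtype.lTensor _ x + (Fintype.linearCombination A s a).1) = g.lTensor _ w₀
        rw [map_add, map_sub, hx0, sub_zero, ← map_add]
        congr 1
        exact sub_add_cancel w₀ _
      haveI : Module.Finite A (range ψ) := Module.Finite.range ψ
      haveI : IsNoetherian A (range ψ) := isNoetherian_of_fg_of_noetherian _ (Module.Finite.iff_fg.mp inferInstance)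
      exact Module.Finite.of_injective (Submodule.inclusion hle) (Submodule.inclusion_injective _)
  intro n
  exact key (n - i₀ + 1).toNat n (by omega)

theorem dRank_isLocallyConstant_of_exact (hP : ∀ i, Module.Flat A (P.X i)) (p : ℤ)
    (h : (CohIII.TFun P p).PreservesMonomorphisms ∧ (CohIII.TFun P p).PreservesEpimorphisms)
    (hfp : Module.FinitePresentation A (ker (δ P p (p - 1)))) :
    IsLocallyConstant (CohIII.dRank P p) := by
  have e := sub_add_cancel p 1
  rw [preservesMono_iff_flat P p hP, preservesEpi_iff_flat P p hP e] at h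
  haveI := flat_ker_δ P p e (hP _) h.2 h.1
  haveI := hfp
  rw [show CohIII.dRank P p = fun x => fdim (ker (δ P p (p - 1))) x from
    funext (dRank_eq_fdim_ker P p e (hP _) h.2)]
  exact fdim_isLocallyConstant _

theorem finite_ker_baseChange_of_finite [IsNoetherianRing A] (hP : ∀ i, Module.Flat A (P.X i)) (i₀ : ℤ)
    (hb : ∀ i < i₀, IsZero (P.X i))
    (hfg : ∀ n : ℤ, Module.Finite A (CohIII.T P n (ModuleCat.of A A)))
    (B : Type u) [CommRing B] [Algebra A B] [Module.Finite A B] (n : ℤ) :
    Module.Finite B (ker ((δ P n (n - 1)).baseChange B)) := by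
  haveI := finite_ker_rTensor P hP i₀ hb hfg n B
  haveI : Module.Finite A (ker ((δ P n (n - 1)).baseChange B)) := by
    refine Module.Finite.of_surjective
      ({ toFun := fun x => ⟨TensorProduct.comm A _ B x.1, ?_⟩
         map_add' := fun x y => Subtype.ext (map_add _ _ _)
         map_smul' := fun r x => Subtype.ext (LinearEquiv.map_smul (TensorProduct.comm A _ B) r x.1) } :
        ker ((δ P n (n - 1)).rTensor B) →ₗ[A] ker ((δ P n (n - 1)).baseChange B)) ?_
    · have h : ∀ z, (δ P n (n - 1)).lTensor B (TensorProduct.comm A _ B z) =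
          TensorProduct.comm A _ B ((δ P n (n - 1)).rTensor B z) := by
        intro z
        induction z using TensorProduct.induction_on with
        | zero => simp
        | tmul c a => simp
        | add a b ha hb => simp only [map_add, ha, hb]
      exact (h x.1).trans (by rw [show (δ P n (n - 1)).rTensor B x.1 = 0 from x.2, map_zero])
    · intro z
      refine ⟨⟨(TensorProduct.comm A _ B).symm z.1, ?_⟩, Subtype.ext ((TensorProduct.comm A _ B).apply_symm_apply z.1)⟩
      show (δ P n (n - 1)).rTensor B _ = 0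
      have hz : (δ P n (n - 1)).lTensor B z.1 = 0 := z.2
      revert hz
      have h : ∀ w, (δ P n (n - 1)).rTensor B ((TensorProduct.comm A _ B).symm w) =
          (TensorProduct.comm A _ B).symm ((δ P n (n - 1)).lTensor B w) := by
        intro w
        induction w using TensorProduct.induction_on with
        | zero => simp
        | tmul c a => simp
        | add a b ha hb => simp only [map_add, ha, hb]
      intro hz
      rw [h, hz, map_zero]
  exact Module.Finite.of_restrictScalars_finite A B _

/-- On a neighbourhood of a minimal prime the fibre ranks are constant. -/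
theorem exists_open_dRank_const [IsNoetherianRing A] (hP : ∀ i, Module.Flat A (P.X i)) (i₀ : ℤ)
    (hb : ∀ i < i₀, IsZero (P.X i))
    (hfg : ∀ n : ℤ, Module.Finite A (CohIII.T P n (ModuleCat.of A A))) (N : ℤ)
    (x : PrimeSpectrum A) (hx : x.asIdeal ∈ minimalPrimes A) :
    ∃ U : Set (PrimeSpectrum A), IsOpen U ∧ x ∈ U ∧
      ∀ y ∈ U, ∀ p ≤ N, CohIII.dRank P p y = CohIII.dRank P p x := by
  let B := A ⧸ x.asIdeal
  let Q := CohIII.bcCx (algebraMap A B) P
  have hQ := flat_bcCx B P hP
  have hbQ : ∀ i < i₀, IsZero (Q.X i) := fun i hi => isZero_bcCx_X P (hb i hi)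
  have hfgB := finite_ker_baseChange_of_finite P hP i₀ hb hfg B
  have hfpQ : ∀ n : ℤ, Module.FinitePresentation B (CohIII.T Q n (ModuleCat.of B B)) := by
    intro n
    haveI := hfgB n
    have e := sub_add_cancel n 1
    haveI : Module.Finite B ((CohIII.TFun Q n).obj (ModuleCat.of B B)) :=
      Module.Finite.equiv ((tAEquiv Q n e) ≪≫ₗ (homologyEquivKer Q n e).symm ≪≫ₗ
        bcHomologyEquivKer B P n e).symm
    exact Module.finitePresentation_of_finite B ((CohIII.TFun Q n).obj (ModuleCat.of B B))
  obtain ⟨f, hf, hex⟩ := exact_bc_upTo Q hQ i₀ hbQ hfpQ N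
  obtain ⟨a, rfl⟩ := Ideal.Quotient.mk_surjective f
  have ha : a ∉ x.asIdeal := fun h => hf (Ideal.Quotient.eq_zero_iff_mem.mpr h)
  let others := (minimalPrimes A) \ {x.asIdeal}
  have hfin : others.Finite := (minimalPrimes.finite_of_isNoetherianRing A).subset Set.diff_subset
  let U : Set (PrimeSpectrum A) := (PrimeSpectrum.basicOpen a : Set (PrimeSpectrum A)) ∩
    (⋃ P' ∈ others, PrimeSpectrum.zeroLocus (P' : Set A))ᶜ
  have hUV : ∀ y ∈ U, x.asIdeal ≤ y.asIdeal ∧ a ∉ y.asIdeal := by
    rintro y ⟨hy1, hy2⟩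
    refine ⟨?_, hy1⟩
    obtain ⟨P', hP', hle⟩ := Ideal.exists_minimalPrimes_le (I := (⊥ : Ideal A)) (J := y.asIdeal) bot_le
    by_contra hne
    refine hy2 (Set.mem_iUnion₂.mpr ⟨P', ⟨hP', fun h => hne ?_⟩, hle⟩)
    rw [← Set.mem_singleton_iff.mp h]; exact hle
  refine ⟨U, (PrimeSpectrum.basicOpen a).2.inter
    (hfin.isClosed_biUnion fun P' _ => PrimeSpectrum.isClosed_zeroLocus _).isOpen_compl, ⟨ha, ?_⟩, ?_⟩
  · intro h
    obtain ⟨P', ⟨hP', hne⟩, hle⟩ := Set.mem_iUnion₂.mp h
    exact hne (le_antisymm hle (hx.2 hP'.1 hle))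
  intro y hy p hp
  obtain ⟨hxy, hay⟩ := hUV y hy
  let C := Localization.Away (Ideal.Quotient.mk x.asIdeal a)
  let R := CohIII.bcCx (algebraMap B C) Q
  have hlc : IsLocallyConstant (CohIII.dRank R p) := by
    refine dRank_isLocallyConstant_of_exact R (flat_bcCx C Q hQ) p (hex p hp) ?_
    have e := sub_add_cancel p 1
    haveI : Module.Flat B C := IsLocalization.flat _ (Submonoid.powers (Ideal.Quotient.mk x.asIdeal a))
    haveI : Module.FinitePresentation B ((CohIII.TFun Q p).obj (ModuleCat.of B B)) := hfpQ p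
    haveI : Module.FinitePresentation B (ker (δ Q p (p - 1))) :=
      Module.FinitePresentation.of_equiv (tAEquiv Q p e)
    let e1 : C ⊗[B] ker (δ Q p (p - 1)) ≃ₗ[C] ker ((δ Q p (p - 1)).baseChange C) :=
      LinearMap.tensorKerEquiv C C (δ Q p (p - 1))
    exact Module.FinitePresentation.of_equiv
      (((homologyEquivKer R p e).symm ≪≫ₗ bcHomologyEquivKer C Q p e) ≪≫ₗ e1.symm).symm
  have lift : ∀ z : PrimeSpectrum A, x.asIdeal ≤ z.asIdeal → a ∉ z.asIdeal →
      ∃ w : PrimeSpectrum C, PrimeSpectrum.comap (algebraMap A B) (PrimeSpectrum.comap (algebraMap B C) w) = z := by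
    intro z hz hza
    have hr : z ∈ Set.range (PrimeSpectrum.comap (algebraMap A B)) := by
      rw [range_comap_of_surjective _ (algebraMap A B) Ideal.Quotient.mk_surjective]
      intro b hb'
      exact hz (Ideal.Quotient.eq_zero_iff_mem.mp hb')
    obtain ⟨z', rfl⟩ := hr
    have hz' : z' ∈ Set.range (PrimeSpectrum.comap (algebraMap B C)) := by
      rw [PrimeSpectrum.localization_away_comap_range C (Ideal.Quotient.mk x.asIdeal a)]
      exact hza
    obtain ⟨w, rfl⟩ := hz'
    exact ⟨w, rfl⟩
  obtain ⟨w, hw⟩ := lift y hxy hay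
  obtain ⟨w₀, hw₀⟩ := lift x le_rfl ha
  have hsp : w₀ ⤳ w := by
    rw [← (PrimeSpectrum.localization_comap_isEmbedding C (Submonoid.powers (Ideal.Quotient.mk x.asIdeal a))).isInducing.specializes_iff,
      ← (PrimeSpectrum.isClosedEmbedding_comap_of_surjective _ (algebraMap A B) Ideal.Quotient.mk_surjective).isInducing.specializes_iff,
      hw, hw₀, ← PrimeSpectrum.le_iff_specializes]
    exact hxy
  have heq : CohIII.dRank R p w₀ = CohIII.dRank R p w := hsp.mem_open (hlc {CohIII.dRank R p w}) rfl
  rw [dRank_comap Q p C, dRank_comap Q p C, dRank_comap P p B, dRank_comap P p B, hw, hw₀] at heq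
  exact heq.symm

end Groth.Agent.FlatCx
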