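import Mathlib.Algebra.Category.ModuleCat.Abelian
import Mathlib.Algebra.Category.ModuleCat.ChangeOfRings
import Mathlib.Algebra.Category.ModuleCat.FilteredColimits
import Mathlib.Algebra.Homology.ShortComplex.ExactFunctor
import Mathlib.Algebra.Homology.ShortComplex.ModuleCat
import Mathlib.Algebra.Module.LocalizedModule.Exact
import Mathlib.CategoryTheory.Filtered.Basic
import Mathlib.CategoryTheory.Limits.ConcreteCategory.Basic
import Mathlib.CategoryTheory.Linear.LinearFunctor
import Mathlib.RingTheory.LocalProperties.Exactness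
import Mathlib.RingTheory.Localization.Module

/-! Linear functors commuting with filtered colimits commute with localization. -/

open CategoryTheory CategoryTheory.Limits LinearMap Function

universe u

namespace Groth.Agent.FlatCx

variable {A : Type u} [CommRing A]

/-- The category with objects `S` whose morphisms `s ⟶ t` are the `u ∈ S` with `u * s = t`. -/
structure DivCat (S : Submonoid A) : Type u where
  /-- the underlying element -/
  val : S

instance (S : Submonoid A) : Category.{u} (DivCat S) where
  Hom s t := {v : S // v * s.val = t.val}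
  id s := ⟨1, one_mul _⟩
  comp {s t r} f g := ⟨g.1 * f.1, by rw [mul_assoc, f.2, g.2]⟩
  id_comp f := Subtype.ext (mul_one _)
  comp_id f := Subtype.ext (one_mul _)
  assoc f g h := Subtype.ext (mul_assoc _ _ _).symm

theorem DivCat.comp_val {S : Submonoid A} {s t r : DivCat S} (f : s ⟶ t) (g : t ⟶ r) :
    (f ≫ g).1 = g.1 * f.1 := rfl

instance (S : Submonoid A) : IsFiltered (DivCat S) where
  cocone_objs s t := ⟨⟨t.val * s.val⟩, ⟨t.val, rfl⟩, ⟨s.val, mul_comm _ _⟩, trivial⟩
  cocone_maps {s t} f g := by
    have h : s.val * f.1 = s.val * g.1 := by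
      rw [mul_comm _ f.1, mul_comm _ g.1]; exact f.2.trans g.2.symm
    exact ⟨⟨s.val * t.val⟩, ⟨s.val, rfl⟩, Subtype.ext h⟩
  nonempty := ⟨⟨1⟩⟩

variable (S : Submonoid A) (M : ModuleCat.{u} A)

/-- The constant diagram with transition maps the multiplications. -/
noncomputable def divDiagram : DivCat S ⥤ ModuleCat.{u} A where
  obj _ := M
  map f := (f.1 : A) • 𝟙 M
  map_id s := one_smul A (𝟙 M)
  map_comp f g := by
    rw [DivCat.comp_val, Submonoid.coe_mul, Linear.smul_comp, Category.id_comp, smul_smul, mul_comm]

/-- `m ↦ m/s`. -/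
noncomputable def mkAt (s : S) : M ⟶ ModuleCat.of A (LocalizedModule S M) :=
  ModuleCat.ofHom
    { toFun := fun m => LocalizedModule.mk m s
      map_add' := fun x y => by
        rw [LocalizedModule.mk_add_mk, ← smul_add, LocalizedModule.mk_cancel_common_left]
      map_smul' := fun a x => by rw [RingHom.id_apply, LocalizedModule.smul'_mk] }

/-- The cocone with point `S⁻¹M`. -/
noncomputable def divCocone : Cocone (divDiagram S M) where
  pt := ModuleCat.of A (LocalizedModule S M)
  ι :=
    { app := fun s => mkAt S M s.val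
      naturality := fun s t f => by
        refine ModuleCat.hom_ext (LinearMap.ext fun m => ?_)
        show LocalizedModule.mk (f.1 • m) t.val = LocalizedModule.mk m s.val
        exact (congrArg (LocalizedModule.mk (f.1 • m)) f.2.symm).trans (LocalizedModule.mk_cancel_common_left _ _ _) }

/-- `S⁻¹M` is the colimit of the multiplication diagram. -/
noncomputable def divCoconeIsColimit : IsColimit (divCocone S M) :=
  IsColimit.ofExistsUnique fun c => by
    let φ : S → ((M : Type u) →ₗ[A] c.pt) := fun s => (c.ι.app ⟨s⟩).hom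
    have w : ∀ (s t v : S) (_ : v * s = t) (m : M), φ t (v • m) = φ s m :=
      fun s t v h m => by
        have := ConcreteCategory.congr_hom (c.w (show (⟨s⟩ : DivCat S) ⟶ ⟨t⟩ from ⟨v, h⟩)) m
        exact this
    let d : LocalizedModule S M → c.pt := fun x => LocalizedModule.liftOn x (fun p => φ p.2 p.1)
      (by
        rintro ⟨m, s⟩ ⟨m', s'⟩ ⟨v, hv⟩
        show φ s m = φ s' m'
        rw [← w s (v * s' * s) (v * s') rfl m, ← w s' (v * s' * s) (v * s) (by rw [mul_right_comm]) m',
          mul_smul, mul_smul]
        exact congrArg _ hv)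
    have hd : ∀ m s, d (LocalizedModule.mk m s) = φ s m := fun m s => LocalizedModule.liftOn_mk ..
    refine ⟨ModuleCat.ofHom { toFun := d, map_add' := ?_, map_smul' := ?_ }, ?_, ?_⟩
    · intro x y
      induction x, y using LocalizedModule.induction_on₂ with
      | h m m' s s' =>
        rw [LocalizedModule.mk_add_mk, hd, hd, hd, map_add, w s (s * s') s' (mul_comm _ _),
          w s' (s * s') s rfl]
    · intro a x
      induction x using LocalizedModule.induction_on with
      | h m s => rw [LocalizedModule.smul'_mk, hd, hd, map_smul, RingHom.id_apply]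
    · intro s
      exact ModuleCat.hom_ext (LinearMap.ext fun m => hd m s.val)
    · intro f hf
      refine ModuleCat.hom_ext (LinearMap.ext fun x => ?_)
      induction x using LocalizedModule.induction_on with
      | h m s =>
        show f.hom (LocalizedModule.mk m s) = d (LocalizedModule.mk m s)
        rw [hd]
        exact ConcreteCategory.congr_hom (hf ⟨s⟩) m

variable (T : ModuleCat.{u} A ⥤ ModuleCat.{u} A) [T.Additive] [T.Linear A]
  (hT : ∀ (J : Type u) [SmallCategory J] [IsFiltered J], PreservesColimitsOfShape J T)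
include hT

/-- `T(M) → T(S⁻¹M)` is a localization. -/
theorem isLocalizedModule_map :
    IsLocalizedModule S (T.map (ModuleCat.ofHom (LocalizedModule.mkLinearMap S M) :
      M ⟶ ModuleCat.of A (LocalizedModule S M))).hom := by
  haveI := hT (DivCat S)
  let hc := isColimitOfPreserves T (divCoconeIsColimit S M)
  let ι : S → (T.obj M ⟶ T.obj (ModuleCat.of A (LocalizedModule S M))) := fun s => T.map (mkAt S M s)
  have hι : ∀ (s : S) (y : T.obj M), (s : A) • (ι s).hom y = (ι 1).hom y := by
    intro s y
    have h : (s : A) • mkAt S M s = mkAt S M 1 := by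
      refine ModuleCat.hom_ext (LinearMap.ext fun m => ?_)
      show ((s : A) • (mkAt S M s).hom) m = LocalizedModule.mk m 1
      rw [LinearMap.smul_apply]
      show (s : A) • LocalizedModule.mk m s = LocalizedModule.mk m 1
      rw [LocalizedModule.smul'_mk]
      exact LocalizedModule.mk_cancel s m
    have := congrArg T.map h
    rw [T.map_smul] at this
    exact ConcreteCategory.congr_hom this y
  have hmk : T.map (ModuleCat.ofHom (LocalizedModule.mkLinearMap S M) :
      M ⟶ ModuleCat.of A (LocalizedModule S M)) = ι 1 :=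
    congrArg T.map (ModuleCat.hom_ext (LinearMap.ext fun _ => rfl))
  rw [hmk]
  constructor
  · intro s
    let L := LocalizedModule S M
    have h := IsLocalizedModule.map_units (LocalizedModule.mkLinearMap S M) s
    rw [Module.End.isUnit_iff] at h ⊢
    let m : ModuleCat.of A L ⟶ ModuleCat.of A L := (s : A) • 𝟙 _
    haveI : IsIso m := (ConcreteCategory.isIso_iff_bijective _).mpr h
    have h' : T.map m = (s : A) • 𝟙 _ := by rw [T.map_smul, T.map_id]
    have := (ConcreteCategory.isIso_iff_bijective (T.map m)).mp inferInstance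
    rw [h'] at this
    exact this
  · intro y
    obtain ⟨⟨s⟩, x, hx⟩ := Concrete.isColimit_exists_rep _ hc y
    exact ⟨⟨x, s⟩, by rw [← hx]; exact hι s x⟩
  · intro x₁ x₂ h
    obtain ⟨t, f, g, hfg⟩ := (Concrete.isColimit_rep_eq_iff_exists _ hc
      (i := (⟨1⟩ : DivCat S)) (j := (⟨1⟩ : DivCat S)) x₁ x₂).mp h
    refine ⟨f.1, ?_⟩
    have hv : f.1 = g.1 := by
      have := f.2.trans g.2.symm
      rwa [mul_one, mul_one] at this
    have e : ∀ (v : (⟨1⟩ : DivCat S) ⟶ t) (x : T.obj M),
        (ConcreteCategory.hom ((divDiagram S M ⋙ T).map v)) x = (v.1 : A) • x := by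
      intro v x
      show (T.map ((v.1 : A) • 𝟙 M)).hom x = _
      rw [T.map_smul, T.map_id]
      rfl
    rw [e, e, ← hv] at hfg
    exact hfg

omit hT

theorem mem_of_forall_exists_smul {N : Type u} [AddCommGroup N] [Module A N] (P : Submodule A N) (y : N)
    (h : ∀ (m : Ideal A) [m.IsMaximal], ∃ c ∈ m.primeCompl, c • y ∈ P) : y ∈ P := by
  by_contra hy
  let I : Ideal A := P.comap (LinearMap.toSpanSingleton A N y)
  have hI : I ≠ ⊤ := fun h' => hy (by
    have h1 : (1 : A) ∈ I := h' ▸ Submodule.mem_top
    simpa [I] using h1)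
  obtain ⟨m, hm, hIm⟩ := Ideal.exists_le_maximal I hI
  obtain ⟨c, hc, hcy⟩ := h m
  exact hc (hIm hcy)

theorem exists_smul_mem_range {M N M' N' : Type u} [AddCommGroup M] [Module A M] [AddCommGroup N]
    [Module A N] [AddCommGroup M'] [Module A M'] [AddCommGroup N'] [Module A N'] (S : Submonoid A)
    (F : M →ₗ[A] N) (f : M →ₗ[A] M') (g : N →ₗ[A] N') [IsLocalizedModule S f] [IsLocalizedModule S g]
    (y : N) (h : ∃ z, IsLocalizedModule.map S f g F z = g y) : ∃ c ∈ S, c • y ∈ LinearMap.range F := by
  obtain ⟨z, hz⟩ := h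
  obtain ⟨⟨x, s⟩, hx⟩ := IsLocalizedModule.surj S f z
  have : g ((s : A) • y) = g (F x) := by
    rw [map_smul, ← hz, ← map_smul, ← IsLocalizedModule.map_apply S f g F x]
    exact congrArg _ hx
  obtain ⟨c, hc⟩ := IsLocalizedModule.exists_of_eq (S := S) this
  exact ⟨(c : A) * s, S.mul_mem c.2 s.2, c • x, by rw [map_smul_of_tower, ← hc, mul_smul]; rfl⟩

theorem exact_of_local {M N L : Type u} [AddCommGroup M] [Module A M] [AddCommGroup N] [Module A N]
    [AddCommGroup L] [Module A L] (F : M →ₗ[A] N) (G : N →ₗ[A] L) (hGF : G ∘ₗ F = 0)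
    (H : ∀ (m : Ideal A) [m.IsMaximal], ∃ (M' N' L' : ModuleCat.{u} A) (f : M →ₗ[A] M') (g : N →ₗ[A] N')
      (h : L →ₗ[A] L') (_ : IsLocalizedModule m.primeCompl f) (_ : IsLocalizedModule m.primeCompl g)
      (_ : IsLocalizedModule m.primeCompl h),
      Function.Exact (IsLocalizedModule.map m.primeCompl f g F) (IsLocalizedModule.map m.primeCompl g h G)) :
    Function.Exact F G := by
  refine fun y => ⟨fun hy => ?_, fun ⟨x, hx⟩ => hx ▸ LinearMap.congr_fun hGF x⟩
  refine mem_of_forall_exists_smul (LinearMap.range F) y fun m _ => ?_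
  obtain ⟨M', N', L', f, g, h, hf, hg, hh, he⟩ := H m
  exact exists_smul_mem_range m.primeCompl F f g y ((he (g y)).mp (by rw [IsLocalizedModule.map_apply, hy, map_zero]))

theorem injective_of_local {M N : Type u} [AddCommGroup M] [Module A M] [AddCommGroup N] [Module A N]
    (F : M →ₗ[A] N)
    (H : ∀ (m : Ideal A) [m.IsMaximal], ∃ (M' N' : ModuleCat.{u} A) (f : M →ₗ[A] M') (g : N →ₗ[A] N')
      (_ : IsLocalizedModule m.primeCompl f) (_ : IsLocalizedModule m.primeCompl g),
      Function.Injective (IsLocalizedModule.map m.primeCompl f g F)) :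
    Function.Injective F := by
  rw [injective_iff_map_eq_zero]
  intro x hx
  refine (Submodule.mem_bot A).mp (mem_of_forall_exists_smul ⊥ x fun m _ => ?_)
  obtain ⟨M', N', f, g, hf, hg, hi⟩ := H m
  have h0 : f x = f 0 := hi (by rw [IsLocalizedModule.map_apply, hx, map_zero, map_zero, map_zero])
  obtain ⟨c, hc⟩ := IsLocalizedModule.exists_of_eq (S := m.primeCompl) h0
  exact ⟨c, c.2, (Submodule.mem_bot A).mpr (by simpa [Submonoid.smul_def] using hc)⟩

theorem surjective_of_local {M N : Type u} [AddCommGroup M] [Module A M] [AddCommGroup N] [Module A N]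
    (F : M →ₗ[A] N)
    (H : ∀ (m : Ideal A) [m.IsMaximal], ∃ (M' N' : ModuleCat.{u} A) (f : M →ₗ[A] M') (g : N →ₗ[A] N')
      (_ : IsLocalizedModule m.primeCompl f) (_ : IsLocalizedModule m.primeCompl g),
      Function.Surjective (IsLocalizedModule.map m.primeCompl f g F)) :
    Function.Surjective F := by
  intro y
  refine mem_of_forall_exists_smul (LinearMap.range F) y fun m _ => ?_
  obtain ⟨M', N', f, g, hf, hg, hs⟩ := H m
  exact exists_smul_mem_range m.primeCompl F f g y (hs (g y))

/-- Identification of a restriction of scalars. -/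
noncomputable def resIso (m : Ideal A) [m.IsPrime] (N : Type u) [AddCommGroup N] [Module A N]
    [Module (Localization.AtPrime m) N] [IsScalarTower A (Localization.AtPrime m) N] :
    (ModuleCat.restrictScalars (algebraMap A (Localization.AtPrime m))).obj
      (ModuleCat.of (Localization.AtPrime m) N) ≅ ModuleCat.of A N :=
  Iso.mk
    (ModuleCat.ofHom (X := (ModuleCat.restrictScalars (algebraMap A (Localization.AtPrime m))).obj
        (ModuleCat.of (Localization.AtPrime m) N))
      { toFun := fun x => (x : N)
        map_add' := fun _ _ => rfl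
        map_smul' := fun a (x : N) => algebraMap_smul (Localization.AtPrime m) a x })
    (ModuleCat.ofHom (Y := (ModuleCat.restrictScalars (algebraMap A (Localization.AtPrime m))).obj
        (ModuleCat.of (Localization.AtPrime m) N))
      { toFun := fun x => (x : N)
        map_add' := fun _ _ => rfl
        map_smul' := fun a (x : N) => (algebraMap_smul (Localization.AtPrime m) a x).symm })
    (ModuleCat.hom_ext (LinearMap.ext fun _ => rfl)) (ModuleCat.hom_ext (LinearMap.ext fun _ => rfl))

/-- The localised short complex. -/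
noncomputable def locSC (m : Ideal A) [m.IsPrime] (X : ShortComplex (ModuleCat.{u} A)) (hX : X.Exact) :
    ShortComplex (ModuleCat.{u} (Localization.AtPrime m)) :=
  ShortComplex.mk (ModuleCat.ofHom (LocalizedModule.map m.primeCompl X.f.hom))
    (ModuleCat.ofHom (LocalizedModule.map m.primeCompl X.g.hom))
    (by
      have h := IsLocalizedModule.map_exact m.primeCompl (LocalizedModule.mkLinearMap m.primeCompl X.X₁)
        (LocalizedModule.mkLinearMap m.primeCompl X.X₂) (LocalizedModule.mkLinearMap m.primeCompl X.X₃) X.f.hom X.g.hom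
        (LinearMap.exact_iff.mpr ((ShortComplex.moduleCat_exact_iff_range_eq_ker _).mp hX).symm)
      exact ModuleCat.hom_ext (LinearMap.ext fun x => (h _).mpr ⟨x, rfl⟩))

theorem locSC_shortExact (m : Ideal A) [m.IsPrime] (X : ShortComplex (ModuleCat.{u} A)) (hX : X.ShortExact) :
    (locSC m X hX.exact).ShortExact where
  exact := by
    rw [ShortComplex.moduleCat_exact_iff]
    intro y hy
    exact (IsLocalizedModule.map_exact m.primeCompl (LocalizedModule.mkLinearMap m.primeCompl X.X₁)
      (LocalizedModule.mkLinearMap m.primeCompl X.X₂) (LocalizedModule.mkLinearMap m.primeCompl X.X₃) X.f.hom X.g.hom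
      (LinearMap.exact_iff.mpr ((ShortComplex.moduleCat_exact_iff_range_eq_ker _).mp hX.exact).symm) y).mp hy
  mono_f := (ModuleCat.mono_iff_injective _).mpr
    (IsLocalizedModule.map_injective m.primeCompl (LocalizedModule.mkLinearMap m.primeCompl X.X₁) (LocalizedModule.mkLinearMap m.primeCompl X.X₂) X.f.hom ((ModuleCat.mono_iff_injective _).mp hX.mono_f))
  epi_g := (ModuleCat.epi_iff_surjective _).mpr
    (IsLocalizedModule.map_surjective m.primeCompl (LocalizedModule.mkLinearMap m.primeCompl X.X₂) (LocalizedModule.mkLinearMap m.primeCompl X.X₃) X.g.hom ((ModuleCat.epi_iff_surjective _).mp hX.epi_g))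

include hT

/-- The value of `T` on a localised morphism. -/
theorem map_localized (m : Ideal A) [m.IsPrime] {M N : ModuleCat.{u} A} (g : M ⟶ N) :
    haveI := isLocalizedModule_map m.primeCompl M T hT
    haveI := isLocalizedModule_map m.primeCompl N T hT
    (T.map ((resIso m (LocalizedModule m.primeCompl M)).inv ≫
      (ModuleCat.restrictScalars (algebraMap A (Localization.AtPrime m))).map
        (ModuleCat.ofHom (LocalizedModule.map m.primeCompl g.hom)) ≫
          (resIso m (LocalizedModule m.primeCompl N)).hom)).hom =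
    IsLocalizedModule.map m.primeCompl
      (T.map (ModuleCat.ofHom (LocalizedModule.mkLinearMap m.primeCompl M) :
        M ⟶ ModuleCat.of A (LocalizedModule m.primeCompl M))).hom
      (T.map (ModuleCat.ofHom (LocalizedModule.mkLinearMap m.primeCompl N) :
        N ⟶ ModuleCat.of A (LocalizedModule m.primeCompl N))).hom (T.map g).hom := by
  haveI := isLocalizedModule_map m.primeCompl M T hT
  haveI := isLocalizedModule_map m.primeCompl N T hT
  refine IsLocalizedModule.ext m.primeCompl (T.map (ModuleCat.ofHom (LocalizedModule.mkLinearMap m.primeCompl M) :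
        M ⟶ ModuleCat.of A (LocalizedModule m.primeCompl M))).hom
    (IsLocalizedModule.map_units (T.map (ModuleCat.ofHom (LocalizedModule.mkLinearMap m.primeCompl N) :
        N ⟶ ModuleCat.of A (LocalizedModule m.primeCompl N))).hom) ?_
  rw [IsLocalizedModule.map_comp, ← ModuleCat.hom_comp, ← ModuleCat.hom_comp, ← T.map_comp, ← T.map_comp]
  congr 2
  refine ModuleCat.hom_ext (LinearMap.ext fun x => ?_)
  exact LinearMap.congr_fun (IsLocalizedModule.map_comp m.primeCompl
    (LocalizedModule.mkLinearMap m.primeCompl M) (LocalizedModule.mkLinearMap m.primeCompl N) g.hom) x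

theorem map_exact_of_local (X : ShortComplex (ModuleCat.{u} A)) (hX : X.ShortExact)
    (h : ∀ (m : Ideal A) [m.IsMaximal],
      (((locSC m X hX.exact).map (ModuleCat.restrictScalars (algebraMap A (Localization.AtPrime m)))).map T).Exact) :
    (X.map T).Exact := by
  rw [ShortComplex.moduleCat_exact_iff_range_eq_ker, eq_comm]
  refine LinearMap.exact_iff.mp ?_
  refine exact_of_local (T.map X.f).hom (T.map X.g).hom
    (by rw [← ModuleCat.hom_comp, ← T.map_comp, X.zero, T.map_zero]; rfl) ?_
  intro m _
  refine ⟨_, _, _, _, _, _, isLocalizedModule_map m.primeCompl X.X₁ T hT,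
    isLocalizedModule_map m.primeCompl X.X₂ T hT, isLocalizedModule_map m.primeCompl X.X₃ T hT, ?_⟩
  rw [← map_localized T hT m X.f, ← map_localized T hT m X.g]
  let R := ModuleCat.restrictScalars (algebraMap A (Localization.AtPrime m))
  let Y := ((locSC m X hX.exact).map R).map T
  let Z : ShortComplex (ModuleCat.{u} A) := ShortComplex.mk
    ((resIso m (LocalizedModule m.primeCompl X.X₁)).inv ≫ R.map (locSC m X hX.exact).f ≫
      (resIso m (LocalizedModule m.primeCompl X.X₂)).hom)
    ((resIso m (LocalizedModule m.primeCompl X.X₂)).inv ≫ R.map (locSC m X hX.exact).g ≫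
      (resIso m (LocalizedModule m.primeCompl X.X₃)).hom)
    (ModuleCat.hom_ext (LinearMap.ext fun x =>
      ConcreteCategory.congr_hom ((locSC m X hX.exact).map R).zero x))
  let e : (locSC m X hX.exact).map R ≅ Z :=
    ShortComplex.isoMk (resIso m (LocalizedModule m.primeCompl X.X₁))
      (resIso m (LocalizedModule m.primeCompl X.X₂)) (resIso m (LocalizedModule m.primeCompl X.X₃))
      ((Iso.hom_inv_id_assoc _ _)) ((Iso.hom_inv_id_assoc _ _))
  have hZ : (Z.map T).Exact := ShortComplex.exact_of_iso (T.mapShortComplex.mapIso e) (h m)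
  exact LinearMap.exact_iff.mpr ((ShortComplex.moduleCat_exact_iff_range_eq_ker _).mp hZ).symm

theorem map_injective_of_local (X : ShortComplex (ModuleCat.{u} A)) (hX : X.ShortExact)
    (h : ∀ (m : Ideal A) [m.IsMaximal],
      Mono (T.map ((ModuleCat.restrictScalars (algebraMap A (Localization.AtPrime m))).map (locSC m X hX.exact).f))) :
    Mono (T.map X.f) := by
  rw [ModuleCat.mono_iff_injective]
  refine injective_of_local (T.map X.f).hom ?_
  intro m _
  refine ⟨_, _, _, _, isLocalizedModule_map m.primeCompl X.X₁ T hT,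
    isLocalizedModule_map m.primeCompl X.X₂ T hT, ?_⟩
  rw [← map_localized T hT m X.f]
  refine (ModuleCat.mono_iff_injective _).mp ?_
  haveI := h m
  rw [T.map_comp, T.map_comp]
  exact mono_comp' inferInstance (mono_comp' (h m) inferInstance)

theorem map_surjective_of_local (X : ShortComplex (ModuleCat.{u} A)) (hX : X.ShortExact)
    (h : ∀ (m : Ideal A) [m.IsMaximal],
      Epi (T.map ((ModuleCat.restrictScalars (algebraMap A (Localization.AtPrime m))).map (locSC m X hX.exact).g))) :
    Epi (T.map X.g) := by
  rw [ModuleCat.epi_iff_surjective]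
  refine surjective_of_local (T.map X.g).hom ?_
  intro m _
  refine ⟨_, _, _, _, isLocalizedModule_map m.primeCompl X.X₂ T hT,
    isLocalizedModule_map m.primeCompl X.X₃ T hT, ?_⟩
  rw [← map_localized T hT m X.g]
  refine (ModuleCat.epi_iff_surjective _).mp ?_
  haveI := h m
  rw [T.map_comp, T.map_comp]
  exact epi_comp' inferInstance (epi_comp' (h m) inferInstance)

theorem leftExact_of_local
    (h : ∀ (m : Ideal A) [m.IsMaximal],
      PreservesFiniteLimits (ModuleCat.restrictScalars (algebraMap A (Localization.AtPrime m)) ⋙ T)) :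
    PreservesFiniteLimits T := by
  have key : ∀ X : ShortComplex (ModuleCat.{u} A), X.ShortExact → (X.map T).Exact ∧ Mono (T.map X.f) := by
    intro X hX
    have hl := fun (m : Ideal A) (hm : m.IsMaximal) =>
      (Functor.preservesFiniteLimits_iff_forall_exact_map_and_mono
        (ModuleCat.restrictScalars (algebraMap A (Localization.AtPrime m)) ⋙ T)).mp (@h m hm) _
        (locSC_shortExact m X hX)
    exact ⟨map_exact_of_local T hT X hX fun m hm => (hl m hm).1,
      map_injective_of_local T hT X hX fun m hm => (hl m hm).2⟩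
  exact (T.preservesFiniteLimits_iff_forall_exact_map_and_mono).mpr key

theorem rightExact_of_local
    (h : ∀ (m : Ideal A) [m.IsMaximal],
      PreservesFiniteColimits (ModuleCat.restrictScalars (algebraMap A (Localization.AtPrime m)) ⋙ T)) :
    PreservesFiniteColimits T := by
  have key : ∀ X : ShortComplex (ModuleCat.{u} A), X.ShortExact → (X.map T).Exact ∧ Epi (T.map X.g) := by
    intro X hX
    have hl : ∀ (m : Ideal A) (_ : m.IsMaximal),
        ((locSC m X hX.exact).map
            (ModuleCat.restrictScalars (algebraMap A (Localization.AtPrime m)) ⋙ T)).Exact ∧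
          Epi ((ModuleCat.restrictScalars (algebraMap A (Localization.AtPrime m)) ⋙ T).map
            (locSC m X hX.exact).g) := by
      intro m hm
      have e : ∀ Y : ShortComplex (ModuleCat.{u} (Localization.AtPrime m)), Y.ShortExact → (Y.map (ModuleCat.restrictScalars (algebraMap A (Localization.AtPrime m)) ⋙ T)).Exact ∧
          Epi ((ModuleCat.restrictScalars (algebraMap A (Localization.AtPrime m)) ⋙ T).map Y.g) :=
        ((Functor.preservesFiniteColimits_tfae
          (ModuleCat.restrictScalars (algebraMap A (Localization.AtPrime m)) ⋙ T)).out 3 0).mp (@h m hm)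
      exact e _ (locSC_shortExact m X hX)
    exact ⟨map_exact_of_local T hT X hX fun m hm => (hl m hm).1,
      map_surjective_of_local T hT X hX fun m hm => (hl m hm).2⟩
  exact ((T.preservesFiniteColimits_tfae).out 0 3).mp key

end Groth.Agent.FlatCx
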