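import Groth.Agent.FlatCx.BC
import Groth.Agent.FlatCx.Fiber
import Mathlib.RingTheory.Flat.FaithfullyFlat.Basic

/-! Consequences for `dRank` and exactness of `T_p`. -/

open CategoryTheory CategoryTheory.Limits MonoidalCategory TensorProduct LinearMap

universe u

namespace Groth.Agent.FlatCx

variable {A : Type u} [CommRing A] (P : ChainComplex (ModuleCat.{u} A) ℤ) (p : ℤ)

/-- `coker δ_p = coker d_p`. -/
noncomputable def cokerδ {q : ℤ} (hpq : q + 1 = p) : (P.X q ⧸ range (δ P p q)) ≃ₗ[A] Cq P q :=
  Submodule.quotEquivOfEq _ _ (by subst hpq; exact range_δ P (q + 1) q)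

theorem dRank_eq_kdim {q : ℤ} (hpq : q + 1 = p) (x : PrimeSpectrum A) :
    CohIII.dRank P p x = kdim (δ P p q) x.asIdeal.ResidueField :=
  (bcHomologyEquivKer x.asIdeal.ResidueField P p hpq).finrank_eq

theorem dRank_add (hP : ∀ i, Module.Finite A (P.X i)) {q : ℤ} (hpq : q + 1 = p)
    (x : PrimeSpectrum A) :
    CohIII.dRank P p x + fdim (P.X q) x = fdim (Cq P p) x + fdim (Cq P q) x := by
  haveI := hP p; haveI := hP q
  rw [dRank_eq_kdim P p hpq, show fdim (Cq P q) x = fdim (P.X q ⧸ range (δ P p q)) x from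
    ((cokerδ P p hpq).baseChange A x.asIdeal.ResidueField _ _).finrank_eq.symm]
  exact kdim_add (δ P p q) x.asIdeal.ResidueField

theorem fdim_X_isLocallyConstant [IsNoetherianRing A]
    (hP : ∀ i, Module.Finite A (P.X i) ∧ Module.Flat A (P.X i)) (i : ℤ) :
    IsLocallyConstant fun x : PrimeSpectrum A => fdim (P.X i) x := by
  haveI := (hP i).1; haveI := (hP i).2
  haveI : Module.FinitePresentation A (P.X i) := Module.finitePresentation_of_finite A (P.X i)
  exact fdim_isLocallyConstant _

theorem dRank_upperSemicontinuous [IsNoetherianRing A]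
    (hP : ∀ i, Module.Finite A (P.X i) ∧ Module.Flat A (P.X i)) :
    UpperSemicontinuous (CohIII.dRank P p) := by
  haveI := (hP p).1; haveI := (hP (p - 1)).1
  intro x n hn
  obtain ⟨U, hU, hxU, h⟩ := exists_nhd_fdim_le (Cq P p) x
  obtain ⟨V, hV, hxV, h'⟩ := exists_nhd_fdim_le (Cq P (p - 1)) x
  have hW : IsOpen ((fun y : PrimeSpectrum A => fdim (P.X (p - 1)) y) ⁻¹' {fdim (P.X (p - 1)) x}) :=
    fdim_X_isLocallyConstant P hP (p - 1) _
  refine Filter.mem_of_superset (((hU.inter hV).inter hW).mem_nhds ⟨⟨hxU, hxV⟩, rfl⟩) ?_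
  rintro y ⟨⟨hyU, hyV⟩, hyW⟩
  have e1 := dRank_add P p (fun i => (hP i).1) (sub_add_cancel p 1) x
  have e2 := dRank_add P p (fun i => (hP i).1) (sub_add_cancel p 1) y
  have e3 : fdim (P.X (p - 1)) y = fdim (P.X (p - 1)) x := hyW
  show CohIII.dRank P p y < n
  have h1 := h y hyU
  have h2 := h' y hyV
  omega

theorem dRank_comap (B : Type u) [CommRing B] [Algebra A B] (x' : PrimeSpectrum B) :
    CohIII.dRank (CohIII.bcCx (algebraMap A B) P) p x' =
      CohIII.dRank P p (PrimeSpectrum.comap (algebraMap A B) x') := by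
  let x := PrimeSpectrum.comap (algebraMap A B) x'
  let φ : x.asIdeal.ResidueField →ₐ[A] x'.asIdeal.ResidueField :=
    Ideal.ResidueField.mapₐ x.asIdeal x'.asIdeal (Algebra.ofId A B) rfl
  have hq := sub_add_cancel p 1
  rw [dRank_eq_kdim _ p hq, dRank_eq_kdim P p hq]
  refine Eq.trans ?_ (kdim_hom _ _ φ (δ P p (p - 1)))
  let L := x'.asIdeal.ResidueField
  let Q := CohIII.bcCx (algebraMap A B) P
  let eC := ((cqBC B P p).baseChange B L _ _) ≪≫ₗ AlgebraTensorModule.cancelBaseChange A B L L _
  let eF := ((eB B (P.X (p - 1))).baseChange B L _ _) ≪≫ₗ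
    AlgebraTensorModule.cancelBaseChange A B L L _
  have hnat : ∀ z, (δ P p (p - 1)).baseChange L (eC z) = eF ((δ Q p (p - 1)).baseChange L z) := by
    intro z
    induction z using TensorProduct.induction_on with
    | zero => simp only [map_zero]; exact (LinearEquiv.map_zero eF).symm
    | tmul l c =>
      show (δ P p (p - 1)).baseChange L
          (AlgebraTensorModule.cancelBaseChange A B L L _ (l ⊗ₜ[B] cqBC B P p c)) =
        AlgebraTensorModule.cancelBaseChange A B L L _
          (l ⊗ₜ[B] eB B (P.X (p - 1)) (δ Q p (p - 1) c))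
      rw [← cqBC_δ]
      generalize cqBC B P p c = w
      induction w using TensorProduct.induction_on with
      | zero => simp
      | tmul b c => simp
      | add a b ha hb => simp only [tmul_add, map_add, ha, hb]
    | add a b ha hb => simp only [map_add, ha, hb]; exact (LinearEquiv.map_add eF _ _).symm
  refine (LinearEquiv.ofSubmodules eC _ _ ?_).finrank_eq
  ext w
  obtain ⟨z, rfl⟩ := eC.surjective w
  rw [Submodule.map_equiv_eq_comap_symm, Submodule.mem_comap]
  simp only [LinearEquiv.coe_coe, LinearEquiv.symm_apply_apply, mem_ker]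
  rw [hnat, map_eq_zero_iff _ eF.injective]
  rfl

/-- `T_p(A) = ker δ_p`. -/
noncomputable def tAEquiv {q : ℤ} (hpq : q + 1 = p) :
    (CohIII.TFun P p).obj (ModuleCat.of A A) ≃ₗ[A] ker (δ P p q) :=
  tEquivKer P p (ModuleCat.of A A) hpq ≪≫ₗ
    LinearEquiv.ofSubmodules (TensorProduct.rid A (Cq P p)) _ _ (by
      have h : ∀ z : Cq P p ⊗[A] A, δ P p q (TensorProduct.rid A _ z) =
          TensorProduct.rid A _ ((δ P p q).rTensor A z) := by
        intro z
        induction z using TensorProduct.induction_on with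
        | zero => simp
        | tmul c a => simp
        | add a b ha hb => simp only [map_add, ha, hb]
      ext c
      obtain ⟨z, rfl⟩ := (TensorProduct.rid A (Cq P p)).surjective c
      rw [Submodule.map_equiv_eq_comap_symm, Submodule.mem_comap]
      simp only [LinearEquiv.coe_coe, LinearEquiv.symm_apply_apply, mem_ker]
      rw [h, map_eq_zero_iff _ (TensorProduct.rid A (P.X q : Type u)).injective])

/-- If `coker d_p` is flat then `T_p = H_p ⊗ -`. -/
noncomputable def tensorLeftIso {q : ℤ} (hpq : q + 1 = p) (hF : Module.Flat A (P.X q))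
    (hC : Module.Flat A (Cq P q)) :
    CohIII.TFun P p ≅ tensorLeft (ModuleCat.of A (ker (δ P p q))) :=
  haveI := hF
  haveI : Module.Flat A (P.X q ⧸ range (δ P p q)) := Module.Flat.of_linearEquiv (cokerδ P p hpq)
  NatIso.ofComponents
    (fun M => LinearEquiv.toModuleIso
      (tEquivKer P p M hpq ≪≫ₗ
        (LinearEquiv.ofInjective _ (kerTensor_injective_range (δ P p q) M).1 ≪≫ₗ
          LinearEquiv.ofEq _ _ (kerTensor_injective_range (δ P p q) M).2).symm))
    (fun {M N} g => by
      ext x
      apply (kerTensor_injective_range (δ P p q) N).1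
      let eM := (LinearEquiv.ofInjective _ (kerTensor_injective_range (δ P p q) M).1 ≪≫ₗ
          LinearEquiv.ofEq _ _ (kerTensor_injective_range (δ P p q) M).2)
      let eN := (LinearEquiv.ofInjective _ (kerTensor_injective_range (δ P p q) N).1 ≪≫ₗ
          LinearEquiv.ofEq _ _ (kerTensor_injective_range (δ P p q) N).2)
      have hM : ∀ y, (ker (δ P p q)).subtype.rTensor M (eM.symm y) = y.1 :=
        fun y => congrArg Subtype.val (eM.apply_symm_apply y)
      have hN : ∀ y, (ker (δ P p q)).subtype.rTensor N (eN.symm y) = y.1 :=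
        fun y => congrArg Subtype.val (eN.apply_symm_apply y)
      refine (hN _).trans ((θ_naturality P p M g x).trans ?_)
      show _ = (ker (δ P p q)).subtype.rTensor N (g.hom.lTensor _ (eM.symm (tEquivKer P p M hpq x)))
      rw [rTensor_lTensor, hM]
      rfl)

theorem flat_ker_δ {q : ℤ} (hpq : q + 1 = p) (hF : Module.Flat A (P.X q))
    (hC : Module.Flat A (Cq P q)) (hC' : Module.Flat A (Cq P p)) :
    Module.Flat A (ker (δ P p q)) := by
  haveI : Module.Flat A (P.X q ⧸ range (δ P p q)) := Module.Flat.of_linearEquiv (cokerδ P p hpq)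
  rw [Module.Flat.iff_lTensor_preserves_injective_linearMap]
  intro M N _ _ _ _ g hg x y hxy
  apply (kerTensor_injective_range (δ P p q) M).1
  apply Module.Flat.lTensor_preserves_injective_linearMap (M := Cq P p) g hg
  rw [← rTensor_lTensor, ← rTensor_lTensor, hxy]

theorem δ_baseChange_injective_of_isZero {q : ℤ} (hpq : q + 1 = p) (M : ModuleCat.{u} A)
    (h : IsZero ((CohIII.TFun P p).obj M)) :
    Function.Injective ((δ P p q).lTensor (M : Type u)) := by
  rw [lTensor_inj_iff_rTensor_inj, injective_iff_map_eq_zero]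
  intro z hz
  obtain ⟨y, rfl⟩ := (mem_range_θ P p M hpq z).mpr hz
  haveI := ModuleCat.subsingleton_of_isZero h
  rw [Subsingleton.elim y 0, map_zero]

theorem fdim_Cq_isLocallyConstant_of_flat [IsNoetherianRing A] (hP : Module.Finite A (P.X p))
    (hC : Module.Flat A (Cq P p)) :
    IsLocallyConstant fun x : PrimeSpectrum A => fdim (Cq P p) x := by
  haveI := hP
  haveI : Module.FinitePresentation A (Cq P p) := Module.finitePresentation_of_finite A _
  exact fdim_isLocallyConstant _

end Groth.Agent.FlatCx
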